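import Groth.Agent.SchDesc.Cover
import Groth.Prelude.Def_AlgGrp
/-!
The group law descends along an fpqc quotient map by a normal subgroup.
-/

set_option autoImplicit false
set_option maxHeartbeats 1000000
set_option linter.style.haveILetI false

universe u

open CategoryTheory CategoryTheory.Limits MonoidalCategory CartesianMonoidalCategory MonObj AlgebraicGeometry

namespace Groth.Agent.GrpQuotLib

open SchDesc

theorem qcc_bind {X : Scheme.{u}} (U : PreZeroHypercover.{0} X) [QuasiCompactCover U]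
    (f : ∀ (x : U.I₀), PreZeroHypercover.{0} (U.X x)) (h : ∀ x, QuasiCompactCover (f x)) :
    QuasiCompactCover (U.bind f) := by
  haveI := h
  infer_instance

theorem isFpqc_comp {X Y Z : Scheme.{u}} (q : X ⟶ Y) (p : Y ⟶ Z) [hq : IsFpqc q] [IsFpqc p] : IsFpqc (q ≫ p) := by
  refine ⟨inferInstance, inferInstance, ?_⟩
  haveI : QuasiCompactCover (PreZeroHypercover.singleton.{0} p) := IsFpqc.qcc
  haveI := qcc_bind (PreZeroHypercover.singleton.{0} p) (fun _ => PreZeroHypercover.singleton.{0} q)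
    fun _ => hq.qcc
  exact QuasiCompactCover.of_hom
    (𝒱 := (PreZeroHypercover.singleton.{0} p).bind fun _ => PreZeroHypercover.singleton.{0} q)
    { s₀ := fun _ => ⟨⟩
      h₀ := fun _ => 𝟙 X
      w₀ := fun _ => Category.id_comp (q ≫ p) }

variable {S : Scheme.{u}}

theorem epi_of_isFpqc {X Y : Over S} (c : X ⟶ Y) [IsFpqc c.left] : Epi c :=
  ⟨fun _ _ h => Over.OverMorphism.ext ((cancel_epi c.left).1 (congrArg CommaMorphism.left h))⟩

theorem exists_lift_fpqc {Z Q T : Over S} (q : Z ⟶ Q) [IsFpqc q.left] (x : T ⟶ Q) :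
    ∃ (T' : Over S) (c : T' ⟶ T) (g : T' ⟶ Z), IsFpqc c.left ∧ c ≫ x = g ≫ q := by
  have h : IsFpqc (pullback.snd q.left x.left) := IsFpqc.of_isPullback (IsPullback.of_hasPullback q.left x.left)
  refine ⟨Over.mk (pullback.snd q.left x.left ≫ T.hom), Over.homMk (pullback.snd _ _) rfl,
    Over.homMk (pullback.fst _ _) ?_, h, Over.OverMorphism.ext pullback.condition.symm⟩
  change pullback.fst q.left x.left ≫ Z.hom = pullback.snd q.left x.left ≫ T.hom
  rw [← Over.w q, ← Category.assoc, pullback.condition, Category.assoc, Over.w x]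

theorem exists_desc {Z Q W : Over S} (q : Z ⟶ Q) [IsFpqc q.left] (f : Z ⟶ W)
    (hf : ∀ (T : Over S) (a b : T ⟶ Z), a ≫ q = b ≫ q → a ≫ f = b ≫ f) : ∃ g : Q ⟶ W, q ≫ g = f := by
  have hl : ∀ {R : Scheme.{u}} (a b : R ⟶ Z.left), a ≫ q.left = b ≫ q.left → a ≫ f.left = b ≫ f.left := by
    intro R a b e
    have hb : b ≫ Z.hom = a ≫ Z.hom := by
      rw [← Over.w q, ← Category.assoc, ← e, Category.assoc, Over.w q]
    exact congrArg CommaMorphism.left (hf (Over.mk (a ≫ Z.hom)) (Over.homMk a rfl) (Over.homMk b hb)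
      (Over.OverMorphism.ext e))
  let g : Q.left ⟶ W.left := EffectiveEpi.desc q.left f.left (fun a b e => hl a b e)
  have hg : q.left ≫ g = f.left := EffectiveEpi.fac _ _ _
  exact ⟨Over.homMk g ((cancel_epi q.left).1 (by rw [reassoc_of% hg, Over.w f, Over.w q])),
    Over.OverMorphism.ext hg⟩

theorem isFpqc_whiskerRight {Z Q : Over S} (q : Z ⟶ Q) [IsFpqc q.left] (B : Over S) : IsFpqc (q ▷ B).left := by
  refine IsFpqc.of_isPullback (g' := (fst Z B).left) (g := (fst Q B).left) (p := q.left) (IsPullback.flip ?_)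
  refine IsPullback.of_right (h₁₂ := (snd Q B).left) (v₁₃ := B.hom) (h₂₂ := Q.hom) ?_ ?_
    (IsPullback.of_hasPullback Q.hom B.hom).flip
  · rw [← Over.comp_left, whiskerRight_snd, Over.w q]
    exact (IsPullback.of_hasPullback Z.hom B.hom).flip
  · rw [← Over.comp_left, whiskerRight_fst, Over.comp_left]

theorem isFpqc_whiskerLeft {Z Q : Over S} (q : Z ⟶ Q) [IsFpqc q.left] (B : Over S) : IsFpqc (B ◁ q).left := by
  refine IsFpqc.of_isPullback (g' := (snd B Z).left) (g := (snd B Q).left) (p := q.left) (IsPullback.flip ?_)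
  refine IsPullback.of_right (h₁₂ := (fst B Q).left) (v₁₃ := B.hom) (h₂₂ := Q.hom) ?_ ?_
    (IsPullback.of_hasPullback B.hom Q.hom)
  · rw [← Over.comp_left, whiskerLeft_fst, Over.w q]
    exact IsPullback.of_hasPullback B.hom Z.hom
  · rw [← Over.comp_left, whiskerLeft_snd, Over.comp_left]

/-- The group law descends along an fpqc quotient map by a normal subgroup. -/
theorem existsUnique_grpObj {G N Q Z : Over S} [GrpObj G] [GrpObj N] (u : N ⟶ G) (p : G ⟶ Q) (r : Z ⟶ G)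
    [IsFpqc (r ≫ p).left] (hsq : IsPullback ((G ◁ u) ≫ μ[G]) (fst G N) p p) (hN : AlgGrp.IsNormalHom u) :
    ∃ s : GrpObj Q, IsMonHom p ∧ (∀ m : Q ⊗ Q ⟶ Q, (p ⊗ₘ p) ≫ m = μ[G] ≫ p → m = μ[Q]) ∧
      ∀ s' : GrpObj Q, @IsMonHom (Over S) _ _ G Q _ s'.toMonObj p → s' = s := by
  -- epimorphisms
  haveI hR : ∀ X : Over S, Epi (p ▷ X) := fun X => by
    haveI := isFpqc_whiskerRight (r ≫ p) X
    haveI := epi_of_isFpqc ((r ≫ p) ▷ X)
    exact epi_of_epi_fac (comp_whiskerRight r p X).symm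
  haveI hL : ∀ X : Over S, Epi (X ◁ p) := fun X => by
    haveI := isFpqc_whiskerLeft (r ≫ p) X
    haveI := epi_of_isFpqc (X ◁ (r ≫ p))
    exact epi_of_epi_fac (MonoidalCategory.whiskerLeft_comp X r p).symm
  haveI hT : ∀ {A B : Over S} (f : A ⟶ B) [∀ X : Over S, Epi (f ▷ X)], Epi (f ⊗ₘ p) := fun f => by
    rw [MonoidalCategory.tensorHom_def]
    exact epi_comp _ _
  haveI : Epi p := by
    haveI := epi_of_isFpqc (r ≫ p)
    exact epi_of_epi r p
  -- the relation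
  have hfac : ∀ {T : Over S} (x y : T ⟶ G), x ≫ p = y ≫ p → ∃ n : T ⟶ N, x = y * (n ≫ u) := fun {T} x y h => by
    refine ⟨hsq.lift x y h ≫ snd G N, ?_⟩
    have h2 : hsq.lift x y h = lift y (hsq.lift x y h ≫ snd G N) :=
      CartesianMonoidalCategory.hom_ext _ _ (by rw [hsq.lift_snd, lift_fst]) (by rw [lift_snd])
    have h1 := hsq.lift_fst x y h
    rw [h2, lift_whiskerLeft_assoc] at h1
    exact h1.symm
  have hrel : ∀ {T : Over S} (y : T ⟶ G) (n : T ⟶ N), (y * (n ≫ u)) ≫ p = y ≫ p := fun {T} y n => by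
    have h1 := congrArg (lift y n ≫ ·) hsq.w
    simp only [lift_fst_assoc, Category.assoc, lift_whiskerLeft_assoc] at h1
    exact (Category.assoc _ _ _).trans h1
  have hcmul : ∀ {T : Over S} (x x' y y' : T ⟶ G), x ≫ p = y ≫ p → x' ≫ p = y' ≫ p →
      (x * x') ≫ p = (y * y') ≫ p := fun {T} x x' y y' h h' => by
    obtain ⟨n, rfl⟩ := hfac x y h
    obtain ⟨n', rfl⟩ := hfac x' y' h'
    obtain ⟨n'', hn⟩ := hN T y'⁻¹ n
    rw [_root_.inv_inv] at hn
    have e : y * (n ≫ u) * (y' * (n' ≫ u)) = y * y' * (n'' ≫ u) * (n' ≫ u) := by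
      rw [← hn]; group
    rw [e, hrel, hrel]
  have hcinv : ∀ {T : Over S} (x y : T ⟶ G), x ≫ p = y ≫ p → x⁻¹ ≫ p = y⁻¹ ≫ p := fun {T} x y h => by
    obtain ⟨n, hn0⟩ := hfac y x h.symm
    obtain ⟨n'', hn⟩ := hN T y n
    have e : x⁻¹ = y⁻¹ * (n'' ≫ u) := by
      rw [← hn, hn0]; group
    rw [e, hrel]
  -- descent of the operations
  let q : Z ⟶ Q := r ≫ p
  haveI : IsFpqc ((q ▷ Z) ≫ (Q ◁ q)).left := by
    rw [Over.comp_left]
    haveI := isFpqc_whiskerRight q Z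
    haveI := isFpqc_whiskerLeft q Q
    exact isFpqc_comp _ _
  obtain ⟨m, hm⟩ := exists_desc ((q ▷ Z) ≫ (Q ◁ q))
    (((fst Z Z ≫ r) * (snd Z Z ≫ r)) ≫ p) fun T a b e => by
      rw [← Category.assoc, ← Category.assoc, MonObj.comp_mul, MonObj.comp_mul]
      have e1 := congrArg (· ≫ fst Q Q) e
      have e2 := congrArg (· ≫ snd Q Q) e
      simp only [Category.assoc, whiskerLeft_fst, whiskerLeft_snd, whiskerRight_fst, whiskerRight_snd_assoc] at e1 e2
      exact hcmul _ _ _ _ (by simpa [q] using e1) (by simpa [q] using e2)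
  have hm' : ∀ {T : Over S} (x y : T ⟶ G), lift (x ≫ p) (y ≫ p) ≫ m = (x * y) ≫ p := fun {T} x y => by
    obtain ⟨T₁, c₁, g₁, hc₁, e₁⟩ := exists_lift_fpqc q (x ≫ p)
    obtain ⟨T₂, c₂, g₂, hc₂, e₂⟩ := exists_lift_fpqc q (c₁ ≫ y ≫ p)
    haveI := epi_of_isFpqc c₁
    haveI := epi_of_isFpqc c₂
    rw [← cancel_epi c₁, ← cancel_epi c₂]
    have e3 : c₂ ≫ c₁ ≫ lift (x ≫ p) (y ≫ p) = lift (c₂ ≫ g₁) g₂ ≫ (q ▷ Z) ≫ (Q ◁ q) := by
      rw [lift_whiskerRight_assoc, lift_whiskerLeft, comp_lift, comp_lift, e₁, e₂, Category.assoc]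
    rw [← Category.assoc c₁, ← Category.assoc c₂, e3, Category.assoc, hm, ← Category.assoc,
      MonObj.comp_mul, lift_fst_assoc, lift_snd_assoc, ← Category.assoc c₁, ← Category.assoc c₂,
      MonObj.comp_mul, MonObj.comp_mul]
    refine hcmul _ _ _ _ ?_ ?_
    · simp only [Category.assoc]
      exact congrArg (c₂ ≫ ·) e₁.symm
    · simp only [Category.assoc]
      exact e₂.symm
  obtain ⟨ν, hν⟩ := exists_desc q (r⁻¹ ≫ p) fun T a b e => by
    rw [← Category.assoc, ← Category.assoc, GrpObj.comp_inv, GrpObj.comp_inv]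
    exact hcinv _ _ (by simpa [q] using e)
  have hν' : ∀ {T : Over S} (x : T ⟶ G), x ≫ p ≫ ν = x⁻¹ ≫ p := fun {T} x => by
    obtain ⟨T₁, c₁, g₁, hc₁, e₁⟩ := exists_lift_fpqc q (x ≫ p)
    haveI := epi_of_isFpqc c₁
    rw [← cancel_epi c₁, ← Category.assoc x, ← Category.assoc c₁, e₁, Category.assoc, hν, ← Category.assoc,
      ← Category.assoc c₁, GrpObj.comp_inv, GrpObj.comp_inv]
    refine hcinv _ _ ?_
    simp only [Category.assoc]
    exact e₁.symm
  have hmp : (p ⊗ₘ p) ≫ m = μ[G] ≫ p := by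
    have h1 := hm' (fst G G) (snd G G)
    have h2 : μ[G] = fst G G * snd G G := by
      change _ = lift (fst G G) (snd G G) ≫ μ[G]
      rw [lift_fst_snd, Category.id_comp]
    rw [h2, ← h1]
    congr 1
  let e₀ : 𝟙_ (Over S) ⟶ Q := η[G] ≫ p
  have heT : ∀ {T : Over S} (f : T ⟶ 𝟙_ (Over S)), f ≫ e₀ = (1 : T ⟶ G) ≫ p := fun {T} f => by
    rw [toUnit_unique f (toUnit T), Hom.one_def, Category.assoc]
  have hl : ∀ {T : Over S} (x : T ⟶ Q), ∃ (T' : Over S) (c : T' ⟶ T) (g : T' ⟶ G), Epi c ∧ c ≫ x = g ≫ p :=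
    fun {T} x => by
      obtain ⟨T₁, c₁, g₁, hc₁, e₁⟩ := exists_lift_fpqc q x
      exact ⟨T₁, c₁, g₁ ≫ r, epi_of_isFpqc c₁, e₁.trans (Category.assoc _ _ _).symm⟩
  have hone : ∀ {T : Over S} (x : T ⟶ Q) (f : T ⟶ 𝟙_ (Over S)),
      lift (f ≫ e₀) x ≫ m = x ∧ lift x (f ≫ e₀) ≫ m = x := fun {T} x f => by
    obtain ⟨T₁, c₁, g₁, hc₁, e₁⟩ := hl x
    constructor <;> rw [← cancel_epi c₁, ← Category.assoc, comp_lift, ← Category.assoc c₁ f, heT, e₁, hm']
    · rw [_root_.one_mul]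
    · rw [_root_.mul_one]
  have hassoc : ∀ {T : Over S} (x y z : T ⟶ Q),
      lift (lift x y ≫ m) z ≫ m = lift x (lift y z ≫ m) ≫ m := fun {T} x y z => by
    obtain ⟨T₁, c₁, g₁, hc₁, e₁⟩ := hl x
    obtain ⟨T₂, c₂, g₂, hc₂, e₂⟩ := hl (c₁ ≫ y)
    obtain ⟨T₃, c₃, g₃, hc₃, e₃⟩ := hl (c₂ ≫ c₁ ≫ z)
    have a1 : c₃ ≫ c₂ ≫ c₁ ≫ x = (c₃ ≫ c₂ ≫ g₁) ≫ p := by rw [e₁]; simp only [Category.assoc]
    have a2 : c₃ ≫ c₂ ≫ c₁ ≫ y = (c₃ ≫ g₂) ≫ p := by rw [e₂]; simp only [Category.assoc]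
    rw [← cancel_epi c₁, ← cancel_epi c₂, ← cancel_epi c₃]
    simp only [comp_lift_assoc, comp_lift, a1, a2, e₃, hm', _root_.mul_assoc]
  let M : MonObj Q :=
    { one := e₀
      mul := m
      one_mul := by
        rw [show e₀ ▷ Q = lift (fst _ _ ≫ e₀) (snd _ _) by ext <;> simp, (hone _ _).1]
        exact (leftUnitor_hom Q).symm
      mul_one := by
        rw [show Q ◁ e₀ = lift (fst _ _) (snd _ _ ≫ e₀) by ext <;> simp, (hone _ _).2]
        exact (rightUnitor_hom Q).symm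
      mul_assoc := by
        rw [show m ▷ Q = lift (lift (fst (Q ⊗ Q) Q ≫ fst Q Q) (fst (Q ⊗ Q) Q ≫ snd Q Q) ≫ m) (snd _ _) by
          ext <;> simp, hassoc]
        rw [← Category.assoc (α_ Q Q Q).hom]
        congr 1
        refine (CartesianMonoidalCategory.hom_ext _ _ ?_ ?_).symm
        · simp only [Category.assoc, whiskerLeft_fst, lift_fst, associator_hom_fst]
        · simp only [Category.assoc, whiskerLeft_snd, lift_snd]
          rw [← Category.assoc]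
          congr 1
          refine CartesianMonoidalCategory.hom_ext _ _ ?_ ?_ <;> simp }
  let G' : GrpObj Q :=
    { toMonObj := M
      inv := ν
      left_inv := by
        rw [← cancel_epi p]
        change p ≫ lift ν (𝟙 Q) ≫ m = p ≫ toUnit Q ≫ e₀
        have h1 := hν' (𝟙 G)
        rw [Category.id_comp] at h1
        have h2 := hm' (𝟙 G)⁻¹ (𝟙 G)
        rw [Category.id_comp] at h2
        rw [← Category.assoc, comp_lift, h1, Category.comp_id, h2, _root_.inv_mul_cancel, ← Category.assoc,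
          heT]
      right_inv := by
        rw [← cancel_epi p]
        change p ≫ lift (𝟙 Q) ν ≫ m = p ≫ toUnit Q ≫ e₀
        have h1 := hν' (𝟙 G)
        rw [Category.id_comp] at h1
        have h2 := hm' (𝟙 G) (𝟙 G)⁻¹
        rw [Category.id_comp] at h2
        rw [← Category.assoc, comp_lift, h1, Category.comp_id, h2, _root_.mul_inv_cancel, ← Category.assoc,
          heT] }
  haveI : Epi (p ⊗ₘ p) := hT p
  have hhom : @IsMonHom (Over S) _ _ G Q _ G'.toMonObj p := ⟨rfl, hmp.symm⟩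
  refine ⟨G', hhom, fun m' h => (cancel_epi (p ⊗ₘ p)).1 (h.trans hmp.symm), fun s' hs' => ?_⟩
  refine GrpObj.ext _ _ ?_
  refine MonObj.ext _ _ ?_
  exact (cancel_epi (p ⊗ₘ p)).1 ((@IsMonHom.mul_hom (Over S) _ _ G Q _ s'.toMonObj p hs').symm.trans hmp.symm)

end Groth.Agent.GrpQuotLib
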