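import Mathlib

/-! The kernel of a homomorphism as a group object. -/

set_option autoImplicit false
universe u

open CategoryTheory CategoryTheory.Limits MonoidalCategory CartesianMonoidalCategory MonObj AlgebraicGeometry

namespace Groth.Agent.GrpQuotLib

variable {S : Scheme.{u}}

/-- The kernel of a homomorphism is a group. -/
theorem exists_grpObj_kernel {G H : Over S} [GrpObj G] [GrpObj H] (f : G ⟶ H) [IsMonHom f] :
    ∃ _ : GrpObj (pullback f η[H]), IsMonHom (pullback.fst f η[H]) := by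
  let N := pullback f η[H]
  let a : N ⟶ G := pullback.fst f η[H]
  haveI : Mono η[H] := SplitMono.mono ⟨toUnit H, toUnit_unique _ _⟩
  haveI : Mono a := inferInstance
  have ha : a ≫ f = 1 := by
    rw [Hom.one_def, toUnit_unique (toUnit N) (pullback.snd f η[H])]
    exact pullback.condition
  have hlift : ∀ {T : Over S} (x : T ⟶ G), x ≫ f = 1 → ∃ z : T ⟶ N, z ≫ a = x :=
    fun {T} x hx => ⟨pullback.lift x (toUnit T) (by rw [hx, Hom.one_def]), pullback.lift_fst _ _ _⟩
  obtain ⟨m, hm⟩ := hlift (fst N N ≫ a * snd N N ≫ a) (by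
    rw [MonObj.mul_comp, Category.assoc, Category.assoc, ha, MonObj.comp_one, MonObj.comp_one, _root_.mul_one])
  obtain ⟨e, he⟩ := hlift (1 : 𝟙_ (Over S) ⟶ G) (by rw [MonObj.one_comp])
  obtain ⟨ν, hν⟩ := hlift a⁻¹ (by rw [GrpObj.inv_comp, ha, inv_one])
  have hmT : ∀ {T : Over S} (x y : T ⟶ N), lift x y ≫ m ≫ a = (x ≫ a) * (y ≫ a) :=
    fun x y => by rw [hm, MonObj.comp_mul, lift_fst_assoc, lift_snd_assoc]
  have heT : ∀ {T : Over S} (t : T ⟶ 𝟙_ (Over S)),
      t ≫ e ≫ a = 1 := fun t => by rw [he, MonObj.comp_one]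
  have h1 : e ▷ N ≫ m = (λ_ N).hom := by
    rw [← cancel_mono a, Category.assoc, hm, MonObj.comp_mul, whiskerRight_fst_assoc, whiskerRight_snd_assoc,
      heT, _root_.one_mul, leftUnitor_hom]
  have h2 : N ◁ e ≫ m = (ρ_ N).hom := by
    rw [← cancel_mono a, Category.assoc, hm, MonObj.comp_mul, whiskerLeft_fst_assoc, whiskerLeft_snd_assoc,
      heT, _root_.mul_one, rightUnitor_hom]
  have h3 : m ▷ N ≫ m = (α_ N N N).hom ≫ N ◁ m ≫ m := by
    rw [← cancel_mono a]
    simp only [Category.assoc, hm, MonObj.comp_mul, whiskerRight_fst_assoc, whiskerRight_snd_assoc,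
      whiskerLeft_fst_assoc, whiskerLeft_snd_assoc, associator_hom_fst_assoc, associator_hom_snd_fst_assoc,
      associator_hom_snd_snd_assoc, _root_.mul_assoc]
  let M : MonObj N := { one := e, mul := m, one_mul := h1, mul_one := h2, mul_assoc := h3 }
  have hl : lift ν (𝟙 N) ≫ m = toUnit N ≫ e := by
    rw [← cancel_mono a, Category.assoc, Category.assoc, hmT, hν, Category.id_comp, inv_mul_cancel, heT]
  have hr : lift (𝟙 N) ν ≫ m = toUnit N ≫ e := by
    rw [← cancel_mono a, Category.assoc, Category.assoc, hmT, hν, Category.id_comp, mul_inv_cancel, heT]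
  refine ⟨{ toMonObj := M, inv := ν, left_inv := hl, right_inv := hr }, ⟨?_, ?_⟩⟩
  · show e ≫ a = η[G]
    rw [he, Hom.one_def, toUnit_unique (toUnit _) (𝟙 _), Category.id_comp]
  · show m ≫ a = (a ⊗ₘ a) ≫ μ[G]
    rw [hm, Hom.mul_def]
    congr 1

end Groth.Agent.GrpQuotLib
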