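import Groth.Agent.ASp.MonoFactor
import Groth.Agent.FlatLocus.FibreCrit
import Groth.Prelude.Def_AlgGrp
/-!
Orbit maps with flat stabiliser factor as an fppf covering followed by a monomorphism.
-/

set_option autoImplicit false
set_option maxHeartbeats 1000000

universe u

open CategoryTheory CategoryTheory.Limits MonoidalCategory CartesianMonoidalCategory MonObj AlgebraicGeometry

namespace Groth.Agent.GrpQuotLib

variable {S : Scheme.{u}}

theorem isPullback_left {A B C D : Over S} {a : A ⟶ B} {b : A ⟶ C} {c : B ⟶ D} {d : C ⟶ D}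
    (h : IsPullback a b c d) : IsPullback a.left b.left c.left d.left :=
  h.map (Over.forget S)

/-- A morphism over `S` with flat kernel pair is an fppf covering followed by a monomorphism over `S`. -/
theorem exists_mono_factor_over {G X : Over S} (o : G ⟶ X) [LocallyOfFinitePresentation G.hom]
    [LocallyOfFiniteType X.hom] {R : Over S} {r₁ r₂ : R ⟶ G} (h : IsPullback r₁ r₂ o o) [Flat r₂.left] :
    ∃ (Q : Over S) (p : G ⟶ Q) (i : Q ⟶ X), p ≫ i = o ∧ Surjective p.left ∧ Flat p.left ∧
      LocallyOfFinitePresentation p.left ∧ Mono i ∧ LocallyOfFinitePresentation Q.hom ∧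
      IsPullback r₁ r₂ p p := by
  haveI : LocallyOfFinitePresentation (o.left ≫ X.hom) := by rw [Over.w o]; infer_instance
  haveI : LocallyOfFinitePresentation o.left :=
    Groth.Agent.FlatLocus.locallyOfFinitePresentation_of_comp o.left X.hom
  have hl := (isPullback_left h).flip
  haveI : Flat (pullback.fst o.left o.left) := by
    rw [← hl.isoPullback_inv_fst]; infer_instance
  obtain ⟨X', f', f'', hs, hf, hp, hm, he⟩ := Groth.Agent.ASp.exists_mono_factor o.left
  let Q : Over S := Over.mk (f'' ≫ X.hom)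
  let p : G ⟶ Q := Over.homMk f' (by
    change f' ≫ f'' ≫ X.hom = G.hom
    rw [← Category.assoc, he, Over.w o])
  let i : Q ⟶ X := Over.homMk f'' rfl
  haveI : Mono i.left := hm
  haveI : Mono i := Over.mono_of_mono_left i
  have hpi : p ≫ i = o := Over.OverMorphism.ext he
  haveI : LocallyOfFinitePresentation (f' ≫ Q.hom) := by
    have : f' ≫ Q.hom = G.hom := Over.w p
    rw [this]; infer_instance
  refine ⟨Q, p, i, hpi, hs, hf, hp, ‹_›, Groth.Agent.FppfSrc.locallyOfFinitePresentation_of_precomp_fppf f' Q.hom, ?_⟩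
  refine IsPullback.of_isLimit' ⟨(cancel_mono i).1 (by rw [Category.assoc, Category.assoc, hpi]; exact h.w)⟩
    (PullbackCone.IsLimit.mk _ (fun c => h.lift c.fst c.snd (by rw [← hpi, c.condition_assoc]))
      (fun c => h.lift_fst _ _ _) (fun c => h.lift_snd _ _ _)
      (fun c l h1 h2 => h.hom_ext (by simpa using h1) (by simpa using h2)))

variable {G X : Over S} [GrpObj G] (a : AlgGrp.Action G X)

theorem mul_smul {T : Over S} (g h : T ⟶ G) (x : T ⟶ X) :
    lift (g * h) x ≫ a.act = lift g (lift h x ≫ a.act) ≫ a.act := by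
  have := lift (lift g h) x ≫= a.mul_act
  simp only [← Category.assoc] at this
  rw [CartesianMonoidalCategory.lift_whiskerRight] at this
  rw [show lift (g * h) x = lift (lift g h ≫ μ[G]) x from rfl, this]
  congr 1
  ext <;> simp

theorem one_smul {T : Over S} (x : T ⟶ X) : lift (1 : T ⟶ G) x ≫ a.act = x := by
  have := lift (toUnit T) x ≫= a.one_act
  simp only [← Category.assoc] at this
  rw [CartesianMonoidalCategory.lift_whiskerRight] at this
  rw [show (1 : T ⟶ G) = toUnit T ≫ η[G] from rfl, this, lift_leftUnitor_hom]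

theorem comp_orbitMap {T : Over S} (ξ : 𝟙_ (Over S) ⟶ X) (g : T ⟶ G) :
    g ≫ a.orbitMap ξ = lift g (toUnit T ≫ ξ) ≫ a.act := by
  rw [AlgGrp.Action.orbitMap, ← Category.assoc, comp_lift, Category.comp_id, comp_toUnit_assoc]

/-- The kernel pair of an orbit map is the group times the stabiliser. -/
theorem isPullback_orbitMap (ξ : 𝟙_ (Over S) ⟶ X) :
    IsPullback ((G ◁ pullback.fst (a.orbitMap ξ) ξ) ≫ μ[G]) (fst G (pullback (a.orbitMap ξ) ξ))
      (a.orbitMap ξ) (a.orbitMap ξ) := by
  let H := pullback (a.orbitMap ξ) ξ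
  let j : H ⟶ G := pullback.fst (a.orbitMap ξ) ξ
  have hj : ∀ {T : Over S} (k : T ⟶ H), (k ≫ j) ≫ a.orbitMap ξ = toUnit T ≫ ξ := fun {T} k => by
    rw [Category.assoc, pullback.condition, ← Category.assoc]
    exact congrArg (· ≫ ξ) (toUnit_unique _ _)
  have e : (G ◁ j) ≫ μ[G] = fst G H * (snd G H ≫ j) := by
    change _ = lift (fst G H) (snd G H ≫ j) ≫ μ[G]
    rfl
  have key : ∀ {T : Over S} (k : T ⟶ G ⊗ H),
      k ≫ (G ◁ j) ≫ μ[G] = (k ≫ fst G H) * ((k ≫ snd G H) ≫ j) := fun {T} k => by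
    rw [e, MonObj.comp_mul, Category.assoc]
  refine IsPullback.of_isLimit' ⟨?_⟩ (PullbackCone.IsLimit.mk _
    (fun c => lift c.snd (pullback.lift (c.snd⁻¹ * c.fst) (toUnit c.pt) ?_)) (fun c => ?_) (fun c => lift_fst _ _)
    (fun c l h1 h2 => ?_))
  · rw [e, comp_orbitMap, mul_smul, ← comp_orbitMap a ξ (snd G H ≫ j), hj, ← comp_orbitMap]
  · rw [comp_orbitMap, mul_smul, ← comp_orbitMap a ξ c.fst, c.condition, comp_orbitMap, ← mul_smul,
      inv_mul_cancel, one_smul]
  · rw [key, lift_fst, lift_snd, pullback.lift_fst, mul_inv_cancel_left]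
  · apply CartesianMonoidalCategory.hom_ext
    · rw [lift_fst]; exact h2
    · rw [lift_snd]
      apply pullback.hom_ext
      · rw [pullback.lift_fst, ← h1, ← h2, key, inv_mul_cancel_left]
      · exact toUnit_unique _ _

/-- Orbit maps with flat stabiliser factor. -/
theorem exists_quotient_by_flat_stabilizer [LocallyOfFinitePresentation G.hom] [LocallyOfFiniteType X.hom]
    (ξ : 𝟙_ (Over S) ⟶ X) (hH : Flat (pullback (a.orbitMap ξ) ξ).hom) :
    ∃ (Q : Over S) (p : G ⟶ Q) (i : Q ⟶ X), p ≫ i = a.orbitMap ξ ∧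
      Surjective p.left ∧ Flat p.left ∧ LocallyOfFinitePresentation p.left ∧ Mono i ∧
      LocallyOfFinitePresentation Q.hom ∧
      IsPullback ((G ◁ pullback.fst (a.orbitMap ξ) ξ) ≫ μ[G]) (fst G (pullback (a.orbitMap ξ) ξ)) p p := by
  haveI := hH
  haveI : Flat (fst G (pullback (a.orbitMap ξ) ξ)).left :=
    inferInstanceAs (Flat (pullback.fst G.hom (pullback (a.orbitMap ξ) ξ).hom))
  exact exists_mono_factor_over _ (isPullback_orbitMap a ξ)

end Groth.Agent.GrpQuotLib
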