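import Groth.Agent.GrpQuotLib.Orbit
import Groth.Agent.SchDesc.Cover
/-!
Homomorphisms with flat kernel factor as an fppf covering homomorphism followed by a monomorphism.
-/

set_option autoImplicit false
set_option maxHeartbeats 1000000

universe u

open CategoryTheory CategoryTheory.Limits MonoidalCategory CartesianMonoidalCategory MonObj AlgebraicGeometry

namespace Groth.Agent.GrpQuotLib

variable {S : Scheme.{u}}

/-- Pulling an fppf covering back along a point. -/
theorem exists_lift_cover {G Q T : Over S} (p : G ⟶ Q) [Surjective p.left] [Flat p.left]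
    [LocallyOfFinitePresentation p.left] (x : T ⟶ Q) :
    ∃ (T' : Over S) (c : T' ⟶ T) (g : T' ⟶ G), Surjective c.left ∧ Flat c.left ∧
      LocallyOfFinitePresentation c.left ∧ c ≫ x = g ≫ p := by
  refine ⟨Over.mk (pullback.fst x.left p.left ≫ T.hom), Over.homMk (pullback.fst _ _) rfl,
    Over.homMk (pullback.snd _ _) ?_, inferInstanceAs (Surjective (pullback.fst x.left p.left)),
    inferInstanceAs (Flat (pullback.fst x.left p.left)),
    inferInstanceAs (LocallyOfFinitePresentation (pullback.fst x.left p.left)), Over.OverMorphism.ext pullback.condition⟩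
  change pullback.snd x.left p.left ≫ G.hom = pullback.fst x.left p.left ≫ T.hom
  rw [← Over.w p, ← Category.assoc, ← pullback.condition, Category.assoc, Over.w x]

/-- Factoring through a monomorphism can be checked on an fppf covering. -/
theorem exists_lift_of_cover {Q H T T' : Over S} (i : Q ⟶ H) [Mono i.left] (c : T' ⟶ T) [Surjective c.left]
    [Flat c.left] [LocallyOfFinitePresentation c.left] (w : T' ⟶ Q) (v : T ⟶ H) (h : w ≫ i = c ≫ v) :
    ∃ z : T ⟶ Q, z ≫ i = v := by
  haveI := Groth.Agent.SchDesc.IsFpqc.of_locallyOfFinitePresentation c.left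
  have hl : w.left ≫ i.left = c.left ≫ v.left := congrArg CommaMorphism.left h
  let z : T.left ⟶ Q.left := EffectiveEpi.desc c.left w.left (fun a b e => (cancel_mono i.left).1 (by
    rw [Category.assoc, Category.assoc, hl, reassoc_of% e]))
  have hz : z ≫ i.left = v.left := (cancel_epi c.left).1 (by rw [EffectiveEpi.fac_assoc, hl])
  exact ⟨Over.homMk z (by rw [← Over.w i, ← Category.assoc, hz, Over.w v]), Over.OverMorphism.ext hz⟩

theorem exists_grpObj_quotient {G Q H : Over S} [GrpObj G] [GrpObj H] (p : G ⟶ Q) (i : Q ⟶ H) [Mono i.left]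
    [Surjective p.left] [Flat p.left] [LocallyOfFinitePresentation p.left] [IsMonHom (p ≫ i)] :
    ∃ _ : GrpObj Q, IsMonHom p ∧ IsMonHom i := by
  haveI : Mono i := Over.mono_of_mono_left i
  have hmul : ∀ {T : Over S} (x y : T ⟶ Q), ∃ z : T ⟶ Q, z ≫ i = (x ≫ i) * (y ≫ i) := fun {T} x y => by
    obtain ⟨T₁, c₁, g₁, hs₁, hf₁, hp₁, e₁⟩ := exists_lift_cover p x
    obtain ⟨T₂, c₂, g₂, hs₂, hf₂, hp₂, e₂⟩ := exists_lift_cover p (c₁ ≫ y)
    haveI : Surjective (c₂ ≫ c₁).left := by rw [Over.comp_left]; infer_instance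
    haveI : Flat (c₂ ≫ c₁).left := by rw [Over.comp_left]; infer_instance
    haveI : LocallyOfFinitePresentation (c₂ ≫ c₁).left := by rw [Over.comp_left]; infer_instance
    refine exists_lift_of_cover i (c₂ ≫ c₁) (((c₂ ≫ g₁) * g₂) ≫ p) _ ?_
    rw [Category.assoc _ p i, MonObj.mul_comp, MonObj.comp_mul, Category.assoc c₂ g₁, ← Category.assoc g₁, ← e₁,
      ← Category.assoc g₂, ← e₂]
    simp only [Category.assoc]
  have hinv : ∀ {T : Over S} (x : T ⟶ Q), ∃ z : T ⟶ Q, z ≫ i = (x ≫ i)⁻¹ := fun {T} x => by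
    obtain ⟨T₁, c₁, g₁, hs₁, hf₁, hp₁, e₁⟩ := exists_lift_cover p x
    refine exists_lift_of_cover i c₁ (g₁⁻¹ ≫ p) _ ?_
    rw [Category.assoc _ p i, GrpObj.inv_comp, GrpObj.comp_inv, ← Category.assoc c₁, e₁, Category.assoc]
  obtain ⟨m, hm⟩ := hmul (fst Q Q) (snd Q Q)
  obtain ⟨ν, hν⟩ := hinv (𝟙 Q)
  rw [Category.id_comp] at hν
  let e₀ : 𝟙_ (Over S) ⟶ Q := η[G] ≫ p
  have he : e₀ ≫ i = η[H] := by rw [Category.assoc]; exact IsMonHom.one_hom _
  have hm' : m ≫ i = (i ⊗ₘ i) ≫ μ[H] := by
    rw [hm]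
    change lift (fst Q Q ≫ i) (snd Q Q ≫ i) ≫ μ[H] = _
    congr 1
  have hmT : ∀ {T : Over S} (x y : T ⟶ Q), lift x y ≫ m ≫ i = (x ≫ i) * (y ≫ i) := fun {T} x y => by
    rw [hm, MonObj.comp_mul, lift_fst_assoc, lift_snd_assoc]
  have heT : ∀ {T : Over S} (f : T ⟶ 𝟙_ (Over S)), f ≫ e₀ ≫ i = 1 := fun {T} f => by
    rw [he]; exact congrArg (· ≫ η[H]) (toUnit_unique f (toUnit T))
  let M : MonObj Q :=
    { one := e₀
      mul := m
      one_mul := by
        rw [← cancel_mono i, Category.assoc]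
        rw [show e₀ ▷ Q = lift (fst _ _ ≫ e₀) (snd _ _) by ext <;> simp, hmT, Category.assoc, heT, _root_.one_mul]
        simp only [leftUnitor_hom]
      mul_one := by
        rw [← cancel_mono i, Category.assoc]
        rw [show Q ◁ e₀ = lift (fst _ _) (snd _ _ ≫ e₀) by ext <;> simp, hmT, Category.assoc, heT, _root_.mul_one]
        simp only [rightUnitor_hom]
      mul_assoc := by
        rw [← cancel_mono i, Category.assoc, Category.assoc]
        rw [show m ▷ Q = lift (fst _ _ ≫ m) (snd _ _) by ext <;> simp, hmT,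
          show Q ◁ m = lift (fst _ _) (snd _ _ ≫ m) by ext <;> simp, Category.assoc (lift _ _), hmT]
        simp only [MonObj.comp_mul, Category.assoc, hm, _root_.mul_assoc]
        simp }
  let G' : GrpObj Q :=
    { toMonObj := M
      inv := ν
      left_inv := by
        rw [← cancel_mono i]
        change (lift ν (𝟙 Q) ≫ m) ≫ i = (toUnit Q ≫ e₀) ≫ i
        rw [Category.assoc, hmT, hν, Category.id_comp, _root_.inv_mul_cancel, Category.assoc, heT]
      right_inv := by
        rw [← cancel_mono i]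
        change (lift (𝟙 Q) ν ≫ m) ≫ i = (toUnit Q ≫ e₀) ≫ i
        rw [Category.assoc, hmT, hν, Category.id_comp, _root_.mul_inv_cancel, Category.assoc, heT] }
  refine ⟨G', ⟨rfl, ?_⟩, ⟨he, hm'⟩⟩
  rw [← cancel_mono i]
  change (μ[G] ≫ p) ≫ i = ((p ⊗ₘ p) ≫ m) ≫ i
  rw [Category.assoc, IsMonHom.mul_hom (p ≫ i), Category.assoc, hm', ← Category.assoc (p ⊗ₘ p), tensorHom_comp_tensorHom]

/-- Homomorphisms with flat kernel. -/
theorem exists_quotient_by_flat_kernel (G H : Over S) [GrpObj G] [GrpObj H]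
    [LocallyOfFinitePresentation G.hom] [LocallyOfFiniteType H.hom] (u : G ⟶ H) [IsMonHom u]
    (hK : Flat (pullback u η[H]).hom) :
    ∃ (Q : Over S) (_ : GrpObj Q) (p : G ⟶ Q) (i : Q ⟶ H), IsMonHom p ∧ IsMonHom i ∧ p ≫ i = u ∧
      Surjective p.left ∧ Flat p.left ∧ LocallyOfFinitePresentation p.left ∧ Mono i ∧
      LocallyOfFinitePresentation Q.hom ∧ AlgGrp.IsKernel (pullback.fst u η[H]) p := by
  let a : AlgGrp.Action G H :=
    { act := (u ▷ H) ≫ μ[H]
      one_act := by rw [← comp_whiskerRight_assoc, IsMonHom.one_hom, MonObj.one_mul]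
      mul_act := by
        have hh : (u ▷ H) ≫ μ[H] = (fst G H ≫ u) * snd G H := by
          change _ = lift (fst G H ≫ u) (snd G H) ≫ μ[H]
          congr 1
        have hG : μ[G] = fst G G * snd G G := by
          change _ = lift (fst G G) (snd G G) ≫ μ[G]
          rw [lift_fst_snd, Category.id_comp]
        rw [hh, hG]
        simp [MonObj.comp_mul, MonObj.mul_comp, _root_.mul_assoc] }
  have ha : a.orbitMap η[H] = u := by
    have := comp_orbitMap a η[H] (𝟙 G)
    rw [Category.id_comp] at this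
    rw [this]
    change lift (𝟙 G) (toUnit G ≫ η[H]) ≫ (u ▷ H) ≫ μ[H] = u
    rw [CartesianMonoidalCategory.lift_whiskerRight_assoc, Category.id_comp]
    change u * 1 = u
    rw [_root_.mul_one]
  obtain ⟨Q, p, i, hpi, hs, hf, hp, hm, hl, -⟩ := exists_quotient_by_flat_stabilizer a η[H] (by rw [ha]; exact hK)
  rw [ha] at hpi
  haveI := hm
  haveI : Mono i.left := by
    haveI : Mono ((Over.forget S).map i) := inferInstance
    exact this
  haveI : IsMonHom (p ≫ i) := by rw [hpi]; infer_instance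
  obtain ⟨inst, hp', hi'⟩ := exists_grpObj_quotient p i
  refine ⟨Q, inst, p, i, hp', hi', hpi, hs, hf, hp, hm, hl, ?_⟩
  refine IsPullback.of_isLimit' ⟨(cancel_mono i).1 ?_⟩ (PullbackCone.IsLimit.mk _
    (fun c => pullback.lift c.fst c.snd ?_) (fun c => pullback.lift_fst _ _ _) (fun c => toUnit_unique _ _)
    (fun c l h1 _ => pullback.hom_ext (h1.trans (pullback.lift_fst _ _ _).symm) (toUnit_unique _ _)))
  · rw [Category.assoc, Category.assoc, hpi, IsMonHom.one_hom, pullback.condition]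
    exact congrArg (· ≫ η[H]) (toUnit_unique _ _)
  · rw [← hpi, c.condition_assoc, IsMonHom.one_hom]

end Groth.Agent.GrpQuotLib
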