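import Groth.Agent.GrpQuotLib.OnePoint
import Groth.Agent.MonoFibre.HomFlat
import Groth.Prelude.Def_SGA3
/-!
The quotient of a group scheme over a field by a closed subgroup with the same underlying space.
-/

set_option backward.isDefEq.respectTransparency.types false
set_option linter.style.haveILetI false

universe u

open CategoryTheory CategoryTheory.Limits MonoidalCategory CartesianMonoidalCategory MonObj AlgebraicGeometry

namespace Groth.Agent.GrpQuotLib

variable {k : Type u} [Field k]

/-- The quotient by a surjective closed subgroup exists and is an affine one point scheme. -/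
theorem exists_quotient_surjective (F G : Over (Spec (CommRingCat.of k))) [GrpObj F] [GrpObj G]
    [LocallyOfFiniteType G.hom] (u : F ⟶ G) [IsMonHom u] [IsClosedImmersion u.left] [Surjective u.left] :
    ∃ (X : Over (Spec (CommRingCat.of k))) (p : G ⟶ X), IsAffine X.left ∧ Subsingleton ↥X.left ∧
      Surjective p.left ∧ Flat p.left ∧ LocallyOfFinitePresentation p.left ∧
      IsPullback ((u ▷ G) ≫ μ[G]) (snd F G) p p := by
  haveI : Mono u := Over.mono_of_mono_left u
  haveI : LocallyOfFiniteType F.hom := by rw [← Over.w u]; infer_instance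
  haveI : LocallyOfFinitePresentation F.hom := LocallyOfFinitePresentation.iff_locallyOfFiniteType.mpr inferInstance
  haveI : Flat F.hom := MonoFibre.flat_to_spec_field
  let t : F ⊗ G ⟶ G := (u ▷ G) ≫ μ[G]
  have ht : ∀ {T : Over (Spec (CommRingCat.of k))} (a : T ⟶ F) (b : T ⟶ G),
      lift a b ≫ t = (a ≫ u) * b := fun a b => by
    simp [t, Hom.mul_def]
  let sh : G ⊗ G ≅ G ⊗ G :=
    { hom := lift (fst G G * snd G G) (snd G G)
      inv := lift (fst G G * (snd G G)⁻¹) (snd G G)
      hom_inv_id := by
        apply CartesianMonoidalCategory.hom_ext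
        · simp [MonObj.comp_mul, GrpObj.comp_inv]
        · simp
      inv_hom_id := by
        apply CartesianMonoidalCategory.hom_ext
        · simp [MonObj.comp_mul]
        · simp }
  let e : F ⊗ G ≅ F ⊗ G :=
    { hom := lift (fst F G) (((fst F G) ≫ u) * snd F G)
      inv := lift (fst F G) (((fst F G) ≫ u)⁻¹ * snd F G)
      hom_inv_id := by
        apply CartesianMonoidalCategory.hom_ext
        · simp
        · simp [MonObj.comp_mul, GrpObj.comp_inv]
      inv_hom_id := by
        apply CartesianMonoidalCategory.hom_ext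
        · simp
        · simp [MonObj.comp_mul] }
  have het : t = e.hom ≫ snd F G := by
    rw [lift_snd, ← ht, CartesianMonoidalCategory.lift_fst_snd, Category.id_comp]
  haveI : IsIso e.hom.left := ((Over.forget _).mapIso e).isIso_hom
  have sq := isPullback_left (A := F ⊗ G) (IsPullback.of_isLimit' ⟨Subsingleton.elim _ _⟩
    (PullbackCone.IsLimit.mk (fst := fst F G) (snd := snd F G) (f := toUnit F) (g := toUnit G) _
      (fun c => lift c.fst c.snd) (fun c => lift_fst _ _) (fun c => lift_snd _ _)
      (fun c m h1 h2 => CartesianMonoidalCategory.hom_ext _ _ (by simpa using h1) (by simpa using h2))))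
  haveI : Flat (snd F G).left := MorphismProperty.of_isPullback (P := @Flat) sq
    (show Flat (toUnit F).left by simpa [Over.toUnit_left] using ‹Flat F.hom›)
  haveI : LocallyOfFinitePresentation (snd F G).left :=
    MorphismProperty.of_isPullback (P := @LocallyOfFinitePresentation) sq
      (show LocallyOfFinitePresentation (toUnit F).left by
        simpa [Over.toUnit_left] using ‹LocallyOfFinitePresentation F.hom›)
  haveI : Flat t.left := by rw [het, Over.comp_left]; infer_instance
  haveI : LocallyOfFinitePresentation t.left := by rw [het, Over.comp_left]; infer_instance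
  have hg : lift t (snd F G) = (u ▷ G) ≫ sh.hom := by
    apply CartesianMonoidalCategory.hom_ext
    · rw [lift_fst, Category.assoc, lift_fst, MonObj.comp_mul, whiskerRight_fst, whiskerRight_snd,
        ← ht, CartesianMonoidalCategory.lift_fst_snd, Category.id_comp]
    · simp [sh]
  haveI : IsIso sh.hom.left := ((Over.forget _).mapIso sh).isIso_hom
  haveI : IsClosedImmersion (u ▷ G).left := by
    have sq' := isPullback_left (A := F ⊗ G) (B := F) (C := G ⊗ G) (D := G) (a := fst F G) (b := u ▷ G) (c := u)
      (d := fst G G) (IsPullback.of_isLimit' ⟨(whiskerRight_fst _ _).symm⟩ (PullbackCone.IsLimit.mk _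
        (fun c => lift c.fst (c.snd ≫ snd G G)) (fun c => lift_fst _ _)
        (fun c => CartesianMonoidalCategory.hom_ext _ _ (by simp [c.condition]) (by simp))
        (fun c m h1 h2 => CartesianMonoidalCategory.hom_ext _ _ (by simpa using h1)
          (by simpa using congrArg (· ≫ snd G G) h2))))
    exact MorphismProperty.of_isPullback (P := @IsClosedImmersion) sq' ‹_›
  haveI : QuasiCompact (lift t (snd F G)).left := by rw [hg, Over.comp_left]; infer_instance
  haveI : Mono (lift t (snd F G)) := by
    haveI : IsClosedImmersion (lift t (snd F G)).left := by rw [hg, Over.comp_left]; infer_instance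
    exact Over.mono_of_mono_left _
  have h : _root_.AlgSp.IsEqvRel (snd F G) t :=
    { injective := fun T r r' h1 h2 => (cancel_mono (lift t (snd F G))).1
        (CartesianMonoidalCategory.hom_ext _ _ (by simpa using h1) (by simpa using h2))
      equivalence := fun T => by
        refine ⟨fun a => ⟨lift (1 : T ⟶ F) a, ?_, lift_snd _ _⟩, fun {a b} ⟨r, h1, h2⟩ =>
          ⟨lift (r ≫ fst F G)⁻¹ a, ?_, lift_snd _ _⟩, fun {a b c} ⟨r, h1, h2⟩ ⟨r', h1', h2'⟩ =>
          ⟨lift ((r ≫ fst F G) * (r' ≫ fst F G)) c, ?_, lift_snd _ _⟩⟩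
        · rw [ht, MonObj.one_comp, _root_.one_mul]
        · have hr : a = ((r ≫ fst F G) ≫ u) * b := by rw [← ht, ← h1, ← h2, ← comp_lift, lift_fst_snd, Category.comp_id]
          rw [ht, GrpObj.inv_comp, hr, inv_mul_cancel_left]
        · have hr : a = ((r ≫ fst F G) ≫ u) * b := by rw [← ht, ← h1, ← h2, ← comp_lift, lift_fst_snd, Category.comp_id]
          have hr' : b = ((r' ≫ fst F G) ≫ u) * c := by rw [← ht, ← h1', ← h2', ← comp_lift, lift_fst_snd, Category.comp_id]
          rw [ht, MonObj.mul_comp, _root_.mul_assoc, ← hr', ← hr] }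
  let pt : ↥(𝟙_ (Over (Spec (CommRingCat.of k)))).left := IsLocalRing.closedPoint k
  refine exists_quotient_onePoint h ((η[G] : 𝟙_ _ ⟶ G).left pt) fun x => ?_
  obtain ⟨f, rfl⟩ := u.left.surjective x
  refine ⟨(lift (𝟙 F) (1 : F ⟶ G)).left f, ?_, ?_⟩
  · rw [← Scheme.Hom.comp_apply, ← Over.comp_left, ht, _root_.mul_one, Category.id_comp]
  · rw [← Scheme.Hom.comp_apply, ← Over.comp_left, lift_snd, Hom.one_def, Over.comp_left, Scheme.Hom.comp_apply]
    haveI : Subsingleton ↥(𝟙_ (Over (Spec (CommRingCat.of k)))).left :=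
      inferInstanceAs (Subsingleton (PrimeSpectrum k))
    exact congrArg _ (Subsingleton.elim _ _)

/-- Sections are injective along a flat surjective map. -/
theorem appTop_injective {X Y : Scheme.{u}} (p : X ⟶ Y) [Surjective p] [Flat p] :
    Function.Injective p.appTop.hom := by
  refine (injective_iff_map_eq_zero _).2 fun f hf => ?_
  refine TopCat.Presheaf.section_ext Y.sheaf ⊤ f 0 fun y hy => ?_
  obtain ⟨x, rfl⟩ := p.surjective y
  letI := (p.stalkMap x).hom.toAlgebra
  haveI : Module.Flat ↥(Y.presheaf.stalk (p x)) ↥(X.presheaf.stalk x) := Flat.stalkMap p x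
  haveI : IsLocalHom (algebraMap ↥(Y.presheaf.stalk (p x)) ↥(X.presheaf.stalk x)) :=
    inferInstanceAs (IsLocalHom (p.stalkMap x).hom)
  haveI := Module.FaithfullyFlat.of_flat_of_isLocalHom (A := ↥(Y.presheaf.stalk (p x)))
    (B := ↥(X.presheaf.stalk x))
  apply FaithfulSMul.algebraMap_injective ↥(Y.presheaf.stalk (p x)) ↥(X.presheaf.stalk x)
  change (p.stalkMap x) (Y.presheaf.germ ⊤ (p x) hy f) = (p.stalkMap x) (Y.presheaf.germ ⊤ (p x) hy 0)
  rw [Scheme.Hom.germ_stalkMap_apply, map_zero, map_zero, show p.app ⊤ f = 0 from hf, map_zero]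

/-- A quotient by a surjective subgroup has one point. -/
theorem subsingleton_of_isPullback (F G X : Over (Spec (CommRingCat.of k))) [GrpObj F] [GrpObj G]
    (u : F ⟶ G) [Surjective u.left] (p : G ⟶ X) [Surjective p.left]
    (hp : ((u ▷ G) ≫ μ[G]) ≫ p = snd F G ≫ p) : Subsingleton ↥X.left := by
  haveI : Subsingleton ↥(𝟙_ (Over (Spec (CommRingCat.of k)))).left :=
    inferInstanceAs (Subsingleton (PrimeSpectrum k))
  have key : u ≫ p = (toUnit F ≫ η[G]) ≫ p := by
    have := congrArg (lift (𝟙 F) (toUnit F ≫ η[G]) ≫ ·) hp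
    simpa [MonObj.lift_comp_one_right] using this
  let o : ↥X.left := (η[G] ≫ p).left (IsLocalRing.closedPoint k : ↥(Spec (CommRingCat.of k)))
  refine subsingleton_of_forall_eq o fun y => ?_
  obtain ⟨x, rfl⟩ := p.left.surjective y
  obtain ⟨f, rfl⟩ := u.left.surjective x
  rw [← Scheme.Hom.comp_apply, ← Over.comp_left, key, Category.assoc, Over.comp_left, Scheme.Hom.comp_apply]
  exact congrArg _ (Subsingleton.elim _ _)

/-- An affine one point scheme of finite type over a field is finite. -/
theorem finite_of_subsingleton (X : Over (Spec (CommRingCat.of k))) [IsAffine X.left] [Subsingleton ↥X.left]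
    [LocallyOfFiniteType X.hom] : ((Scheme.ΓSpecIso (CommRingCat.of k)).inv ≫ X.hom.appTop).hom.Finite := by
  have h1 : ((Scheme.ΓSpecIso (CommRingCat.of k)).inv ≫ X.hom.appTop).hom.FiniteType :=
    RingHom.finiteType_respectsIso.2 _ (Scheme.ΓSpecIso (CommRingCat.of k)).symm.commRingCatIsoToRingEquiv
      (HasRingHomProperty.appTop @LocallyOfFiniteType X.hom inferInstance)
  letI := ((Scheme.ΓSpecIso (CommRingCat.of k)).inv ≫ X.hom.appTop).hom.toAlgebra
  haveI : Algebra.FiniteType k Γ(X.left, ⊤) := h1
  haveI : IsNoetherianRing Γ(X.left, ⊤) := Algebra.FiniteType.isNoetherianRing k _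
  haveI : Subsingleton (PrimeSpectrum Γ(X.left, ⊤)) := X.left.isoSpec.inv.homeomorph.injective.subsingleton
  haveI : Ring.KrullDimLE 0 Γ(X.left, ⊤) := Ring.KrullDimLE.mk₀ fun I hI => by
    obtain ⟨M, hM, hIM⟩ := Ideal.exists_le_maximal I hI.ne_top
    rwa [show I = M from congrArg PrimeSpectrum.asIdeal
      (Subsingleton.elim (⟨I, hI⟩ : PrimeSpectrum Γ(X.left, ⊤)) ⟨M, hM.isPrime⟩)]
  haveI : IsArtinianRing Γ(X.left, ⊤) := IsNoetherianRing.isArtinianRing_of_krullDimLE_zero
  exact Module.finite_of_isArtinianRing k Γ(X.left, ⊤)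

/-- The residue field at a rational point. -/
theorem isIso_residueFieldMap (X : Over (Spec (CommRingCat.of k))) (e : 𝟙_ _ ⟶ X)
    (x : ↥(𝟙_ (Over (Spec (CommRingCat.of k)))).left) : IsIso (X.hom.residueFieldMap (e.left x)) := by
  have h : e.left ≫ X.hom = 𝟙 _ := Over.w e
  have hb : Function.Bijective (X.hom.residueFieldMap (e.left x) ≫ e.left.residueFieldMap x).hom := by
    rw [← Scheme.residueFieldMap_comp]
    refine (ConcreteCategory.isIso_iff_bijective _).mp ?_
    have hid : ∀ {W : Scheme.{u}} (f : W ⟶ W) (w : ↥W), f = 𝟙 W → IsIso (f.residueFieldMap w) := by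
      rintro W f w rfl
      rw [Scheme.residueFieldMap_id]
      exact IsIso.id _
    exact hid (W := (𝟙_ (Over (Spec (CommRingCat.of k)))).left) (e.left ≫ X.hom) x h
  refine (ConcreteCategory.isIso_iff_bijective _).mpr ⟨(X.hom.residueFieldMap (e.left x)).hom.injective, fun y => ?_⟩
  obtain ⟨z, hz⟩ := hb.2 ((e.left.residueFieldMap x).hom y)
  exact ⟨z, (e.left.residueFieldMap x).hom.injective hz⟩

end Groth.Agent.GrpQuotLib
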