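import Groth.Agent.GrpQuotLib.CosetSpace
import Groth.Agent.GenSmooth.Scheme
import Groth.Agent.ASp.QSBase
import Groth.Agent.ASp.Coprod
import Groth.Agent.ASp.FppfSrcLocal
import Groth.Agent.MonoFibre.Orbit
/-!
The space of cosets of a closed subgroup of an algebraic group over a field is a scheme.
-/

set_option backward.isDefEq.respectTransparency false
set_option backward.isDefEq.respectTransparency.types false
set_option linter.style.haveILetI false

universe u

open CategoryTheory CategoryTheory.Limits MonoidalCategory CartesianMonoidalCategory MonObj AlgebraicGeometry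
open TopologicalSpace (NoetherianSpace)

noncomputable section

namespace Groth.Agent.GrpQuotLib

open _root_.AlgSp Groth.Agent.ASp

/-- A maximal point lies in every dense open. -/
theorem mem_of_dense_of_isMaxPt {T : Type*} [TopologicalSpace T] [NoetherianSpace T] [QuasiSober T] [T0Space T]
    {ξ : T} (hξ : MonoFibre.IsMaxPt ξ) {V : Set T} (hV : IsOpen V) (hd : Dense V) : ξ ∈ V := by
  let Z := irreducibleComponent ξ
  have hfin := NoetherianSpace.finite_irreducibleComponents (α := T)
  have hZ : Z ∈ irreducibleComponents T := irreducibleComponent_mem_irreducibleComponents ξ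
  have hO : IsOpen (⋃₀ (irreducibleComponents T \ {Z}))ᶜ := by
    rw [Set.sUnion_eq_biUnion, isOpen_compl_iff]
    exact hfin.sdiff.isClosed_biUnion fun W hW => isClosed_of_mem_irreducibleComponents W hW.1
  have hcl := closure_sUnion_irreducibleComponents_sdiff_singleton hfin Z hZ
  have hne : ((⋃₀ (irreducibleComponents T \ {Z}))ᶜ : Set T).Nonempty := by
    rw [← closure_nonempty_iff, hcl]
    exact ⟨ξ, mem_irreducibleComponent⟩
  obtain ⟨y, hy, hyV⟩ := hd.inter_open_nonempty _ hO hne
  have hyZ : y ∈ Z := hcl ▸ subset_closure hy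
  obtain ⟨ζ, hζ⟩ := QuasiSober.sober (isIrreducible_irreducibleComponent (x := ξ)) isClosed_irreducibleComponent
  have h := hξ ζ (hζ.specializes mem_irreducibleComponent)
  subst h
  exact (hζ.specializes hyZ).mem_open hV hyV

theorem isClosedMap_map_of_finite {S : Scheme.{u}} {F G : Sp S} {f : F ⟶ G} (hf : RepWith @IsFinite f) :
    IsClosedMap (Points.map f) := by
  intro W hW
  rw [← isOpen_compl_iff, Points.isOpen_iff] at hW ⊢
  intro T g
  rw [Set.preimage_compl, preimage_ofPt_image (hf.1.isPullback g), isOpen_compl_iff]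
  haveI : IsFinite (hf.1.snd g).left := hf.2 g _ _ (hf.1.isPullback g)
  refine (hf.1.snd g).left.isClosedMap _ ?_
  rw [← isOpen_compl_iff, ← Set.preimage_compl]
  exact hW _ _

theorem isOpen_range_map {S : Scheme.{u}} {F G : Sp S} {f : F ⟶ G} (hf : RepWith @IsOpenImmersion f) :
    IsOpen (Set.range (Points.map f)) :=
  (isOpenMap_map_of_repWith (P := @IsOpenImmersion)
    (fun g hg => haveI : IsOpenImmersion g := hg; g.isOpenEmbedding.isOpenMap) hf).isOpen_range

variable {k : Type u} [Field k]

local notation "Sk" => Spec (CommRingCat.of k)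

variable {H G : Over (Spec (CommRingCat.of k))} [GrpObj H] [GrpObj G]

/-- A dense affine open subscheme of a separated quasi-compact space covered by a Noetherian scheme. -/
theorem exists_dense_affine_open {U₀ : Over (Spec (CommRingCat.of k))} [NoetherianSpace ↥U₀.left]
    {F : Sp (Spec (CommRingCat.of k))} (hF : IsAlgSpace F) (hsep : IsSeparatedSp F)
    (p : (yon _).obj U₀ ⟶ F) (hps : RepWith @Surjective p) :
    ∃ (V : Over (Spec (CommRingCat.of k))) (c : (yon _).obj V ⟶ F), IsAffine V.left ∧
      RepWith @IsOpenImmersion c ∧ Dense (Set.range (Points.map c)) := by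
  haveI : CompactSpace (Points F) := (surjective_ofPt hps).compactSpace (Points.continuous_ofPt p)
  haveI : NoetherianSpace (Points F) := by
    rw [← TopologicalSpace.noetherian_univ_iff, ← (surjective_ofPt hps).range_eq]
    exact TopologicalSpace.NoetherianSpace.range (Points.ofPt p) (Points.continuous_ofPt p)
  obtain ⟨U, a, _, hae, has⟩ := exists_affine_chart hF
  obtain ⟨R, t, s, sq⟩ := exists_isPullback_yon hae.1 a
  haveI : IsAffine (U ⊗ U).left := inferInstanceAs (IsAffine (pullback U.hom U.hom))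
  have sqd := Groth.Agent.Boot.isPullback_diag_kernelPair a sq ((yon _).map (lift t s))
    (q₁ := (yon _).map (fst U U)) (q₂ := (yon _).map (snd U U))
    (by rw [← Functor.map_comp, lift_fst]) (by rw [← Functor.map_comp, lift_snd]) hom_ext_yon_tensor
  haveI : IsClosedImmersion (lift t s).left := hsep.2 _ _ _ sqd
  haveI : IsAffine R.left := isAffine_of_isAffineHom (lift t s).left
  obtain ⟨M, c, hc, hd⟩ := exists_open_scheme hF hae has sq
  haveI : NoetherianSpace ↥M.left :=
    ((isOpenMap_map_of_repWith (P := @IsOpenImmersion)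
      (fun g hg => haveI : IsOpenImmersion g := hg; g.isOpenEmbedding.isOpenMap) hc).comp
        (Points.schemeHomeo M).isOpenMap |> fun ho =>
      (Topology.IsOpenEmbedding.of_continuous_injective_isOpenMap
        ((Points.continuous_map c).comp (Points.schemeHomeo M).continuous)
        ((injective_map_of_repWith (P := @IsOpenImmersion)
          (fun g hg => haveI : IsOpenImmersion g := hg; g.isOpenEmbedding.injective) hc).comp
            (Points.schemeHomeo M).injective) ho).isInducing.noetherianSpace)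
  obtain ⟨W, hW, hWd⟩ := GenSmooth.exists_dense_affine M.left
  let V : Over (Spec (CommRingCat.of k)) := Over.mk (W.ι ≫ M.hom)
  let jV : V ⟶ M := Over.homMk W.ι rfl
  haveI : IsOpenImmersion jV.left := inferInstanceAs (IsOpenImmersion W.ι)
  refine ⟨V, (yon _).map jV ≫ c, hW, repWith_comp (repWith_yon_map (P := @IsOpenImmersion) (g := jV) ‹_›) hc, ?_⟩
  refine dense_iff_inter_open.mpr fun O hO hne => ?_
  obtain ⟨y, hyO, x, hx⟩ := hd.inter_open_nonempty O hO hne
  obtain ⟨m, rfl⟩ := (Points.schemeHomeo M).surjective x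
  subst hx
  obtain ⟨m', hm', hmW⟩ := hWd.inter_open_nonempty _
    (hO.preimage ((Points.continuous_map c).comp (Points.schemeHomeo M).continuous)) ⟨m, hyO⟩
  refine ⟨_, hm', Points.schemeHomeo V ⟨m', hmW⟩, ?_⟩
  rw [Points.map_comp]
  exact congrArg _ (Points.map_yon_map_apply _ _)

/-- A product with a scheme over the base is a pullback of its structure map. -/
theorem isPullback_prod (F : Sp (Spec (CommRingCat.of k))) (Q : Over (Spec (CommRingCat.of k))) :
    IsPullback (prod.fst : F ⨯ (yon _).obj Q ⟶ F) prod.snd (isTerminalYonBase.from F)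
      ((yon _).map (toUnit Q)) := by
  have e : (yon (Spec (CommRingCat.of k))).map (toUnit Q) = isTerminalYonBase.from _ := isTerminalYonBase.hom_ext _ _
  rw [e]
  exact IsPullback.of_is_product (limit.isLimit (pair F ((yon _).obj Q))) isTerminalYonBase

/-- The product of the coset projection with a scheme. -/
def pProd {G : Over (Spec (CommRingCat.of k))} {F : Sp (Spec (CommRingCat.of k))} (p : (yon _).obj G ⟶ F) (Q : Over (Spec (CommRingCat.of k))) :
    (yon _).obj (G ⊗ Q) ⟶ F ⨯ (yon _).obj Q :=
  prod.lift ((yon _).map (fst G Q) ≫ p) ((yon _).map (snd G Q))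

theorem isPullback_pProd {G : Over (Spec (CommRingCat.of k))} {F : Sp (Spec (CommRingCat.of k))}
    (p : (yon _).obj G ⟶ F)
    (Q : Over (Spec (CommRingCat.of k))) :
    IsPullback ((yon _).map (fst G Q)) (pProd p Q) p prod.fst := by
  refine IsPullback.of_isLimit' ⟨(prod.lift_fst _ _).symm⟩ ?_
  have hlift : ∀ c : PullbackCone p (prod.fst : F ⨯ (yon _).obj Q ⟶ F), ∃ l : c.pt ⟶ (yon _).obj (G ⊗ Q),
      l ≫ (yon _).map (fst G Q) = c.fst ∧ l ≫ (yon _).map (snd G Q) = c.snd ≫ prod.snd := by
    intro c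
    have h := isPullback_yon_map (S := Sk) (A := G ⊗ Q) (a := fst G Q) (b := snd G Q) (c := toUnit G) (d := toUnit Q)
      (IsPullback.of_isLimit' ⟨Subsingleton.elim _ _⟩ (PullbackCone.IsLimit.mk _
        (fun c => lift c.fst c.snd) (fun c => lift_fst _ _) (fun c => lift_snd _ _)
        (fun c m h1 h2 => CartesianMonoidalCategory.hom_ext _ _ (by simpa using h1) (by simpa using h2))))
    exact ⟨h.lift c.fst (c.snd ≫ prod.snd) (hom_ext_yon_base _ _), h.lift_fst _ _ _, h.lift_snd _ _ _⟩
  choose l hl₁ hl₂ using hlift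
  refine PullbackCone.IsLimit.mk _ l hl₁ (fun c => ?_) (fun c m h1 h2 => hom_ext_yon_tensor _ _ (h1.trans (hl₁ c).symm) ?_)
  · apply prod.hom_ext
    · rw [Category.assoc, pProd, prod.lift_fst, reassoc_of% hl₁ c, c.condition]
    · rw [Category.assoc, pProd, prod.lift_snd, hl₂]
  · rw [hl₂, ← h2, Category.assoc, pProd, prod.lift_snd]

/-- Translation of the space of cosets by a parametrised point. -/
theorem exists_translate_prod (u : H ⟶ G) {F : Sp (Spec (CommRingCat.of k))} (p : (yon _).obj G ⟶ F)
    (hpf : RepWith @Flat p) (hpl : RepWith @LocallyOfFinitePresentation p) (hps : RepWith @Surjective p)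
    (hpb : IsPullback ((yon _).map (cosetT u)) ((yon _).map (snd H G)) p p)
    {Q : Over (Spec (CommRingCat.of k))} (g : Q ⟶ G) :
    ∃ ψ : F ⨯ (yon _).obj Q ≅ F ⨯ (yon _).obj Q,
      pProd p Q ≫ ψ.hom ≫ prod.fst = (yon _).map (fst G Q * (snd G Q ≫ g)) ≫ p := by
  have sq := isPullback_pProd p Q
  haveI : Epi (pProd p Q) := by
    haveI : Sheaf.IsLocallySurjective (pProd p Q) := isLocallySurjective_of_repWith (repWith_of_isPullback sq hpf)
      (repWith_of_isPullback sq hpl) (repWith_of_isPullback sq hps)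
    infer_instance
  have key : ∀ g' : Q ⟶ G, ∃ φ : F ⨯ (yon _).obj Q ⟶ F ⨯ (yon _).obj Q,
      pProd p Q ≫ φ = (yon _).map (lift (fst G Q * (snd G Q ≫ g')) (snd G Q)) ≫ pProd p Q := by
    intro g'
    refine exists_desc_of_epi (pProd p Q) (IsPullback.of_hasPullback _ _) _ (hom_ext_yon fun T w => ?_)
    obtain ⟨α, hα⟩ := (yon _).map_surjective (w ≫ pullback.fst (pProd p Q) (pProd p Q))
    obtain ⟨β, hβ⟩ := (yon _).map_surjective (w ≫ pullback.snd (pProd p Q) (pProd p Q))
    simp only [← Category.assoc]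
    rw [← hα, ← hβ, ← Functor.map_comp, ← Functor.map_comp]
    have e : (yon _).map α ≫ pProd p Q = (yon _).map β ≫ pProd p Q := by
      rw [hα, hβ, Category.assoc, Category.assoc, pullback.condition]
    have e1 := congrArg (· ≫ prod.fst) e
    have e2 := congrArg (· ≫ prod.snd) e
    simp only [pProd, Category.assoc, prod.lift_fst, prod.lift_snd, ← Functor.map_comp] at e2
    simp only [pProd, Category.assoc, prod.lift_fst] at e1
    simp only [← Category.assoc, ← Functor.map_comp] at e1
    have e2' := (yon _).map_injective e2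
    obtain ⟨r, hr⟩ := (yon _).map_surjective (hpb.lift _ _ e1)
    have hr₁ : r ≫ cosetT u = α ≫ fst G Q := (yon _).map_injective (by rw [Functor.map_comp, hr, hpb.lift_fst])
    have hr₂ : r ≫ snd H G = β ≫ fst G Q := (yon _).map_injective (by rw [Functor.map_comp, hr, hpb.lift_snd])
    have hc : lift (r ≫ fst H G) ((β ≫ fst G Q) * (α ≫ snd G Q ≫ g')) ≫ cosetT u =
        α ≫ (fst G Q * (snd G Q ≫ g')) := by
      rw [lift_cosetT, ← _root_.mul_assoc, ← lift_cosetT u, ← hr₂, ← comp_lift, lift_fst_snd, Category.comp_id,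
        hr₁, MonObj.comp_mul]
    apply prod.hom_ext
    · simp only [pProd, Category.assoc, prod.lift_fst]
      simp only [← Category.assoc, ← Functor.map_comp]
      simp only [Category.assoc, lift_fst]
      rw [← hc, Functor.map_comp, Category.assoc, hpb.w, ← Category.assoc, ← Functor.map_comp, lift_snd,
        MonObj.comp_mul, reassoc_of% e2']
    · simp only [pProd, Category.assoc, prod.lift_snd]
      simp only [← Functor.map_comp, Category.assoc, lift_snd, e2']
  have inv_pair : ∀ x y : Q ⟶ G, x * y = 1 →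
      lift (fst G Q * (snd G Q ≫ x)) (snd G Q) ≫ lift (fst G Q * (snd G Q ≫ y)) (snd G Q) = 𝟙 _ := fun x y hxy => by
    apply CartesianMonoidalCategory.hom_ext
    · rw [Category.assoc, lift_fst, MonObj.comp_mul, lift_fst, lift_snd_assoc, _root_.mul_assoc, ← MonObj.comp_mul,
        hxy, MonObj.comp_one, _root_.mul_one, Category.id_comp]
    · simp
  obtain ⟨φ, hφ⟩ := key g
  obtain ⟨φ', hφ'⟩ := key g⁻¹
  refine ⟨{ hom := φ, inv := φ', hom_inv_id := ?_, inv_hom_id := ?_ }, ?_⟩
  · rw [← cancel_epi (pProd p Q), ← Category.assoc, hφ, Category.assoc, hφ', ← Category.assoc, ← Functor.map_comp,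
      inv_pair _ _ (mul_inv_cancel g), (yon _).map_id, Category.id_comp, Category.comp_id]
  · rw [← cancel_epi (pProd p Q), ← Category.assoc, hφ', Category.assoc, hφ, ← Category.assoc, ← Functor.map_comp,
      inv_pair _ _ (inv_mul_cancel g), (yon _).map_id, Category.id_comp, Category.comp_id]
  · rw [← Category.assoc, hφ, Category.assoc, pProd, prod.lift_fst, ← Category.assoc, ← Functor.map_comp, lift_fst]

theorem isPullback_tensor {S : Scheme.{u}} (A B : Over S) :
    IsPullback (fst A B) (snd A B) (toUnit A) (toUnit B) :=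
  IsPullback.of_isLimit' ⟨Subsingleton.elim _ _⟩ (PullbackCone.IsLimit.mk _
    (fun c => lift c.fst c.snd) (fun c => lift_fst _ _) (fun c => lift_snd _ _)
    (fun c m h1 h2 => CartesianMonoidalCategory.hom_ext _ _ (by simpa using h1) (by simpa using h2)))

theorem isPullback_whiskerRight {S : Scheme.{u}} {A B : Over S} (f : A ⟶ B) (Q : Over S) :
    IsPullback (fst A Q) (f ▷ Q) f (fst B Q) :=
  IsPullback.of_isLimit' ⟨(whiskerRight_fst _ _).symm⟩ (PullbackCone.IsLimit.mk _
    (fun c => lift c.fst (c.snd ≫ snd B Q)) (fun c => lift_fst _ _)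
    (fun c => CartesianMonoidalCategory.hom_ext _ _ (by simp [c.condition]) (by simp))
    (fun c m h1 h2 => CartesianMonoidalCategory.hom_ext _ _ (by simpa using h1)
      (by simpa using congrArg (· ≫ snd B Q) h2)))

/-- The closed point of a residue field, as an object of `Over`. -/
abbrev resPt (X : Over (Spec (CommRingCat.of k))) (x : ↥X.left) : Over (Spec (CommRingCat.of k)) :=
  Over.mk (X.left.fromSpecResidueField x ≫ X.hom)

theorem isFinite_resPt {X : Over (Spec (CommRingCat.of k))} [LocallyOfFiniteType X.hom] {x : ↥X.left}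
    (hx : x ∈ closedPoints ↥X.left) : IsFinite (resPt X x).hom := by
  haveI : JacobsonSpace ↥X.left := LocallyOfFiniteType.jacobsonSpace X.hom
  haveI := isClosed_singleton_iff_isClosedImmersion.mp (mem_closedPoints_iff.mp hx)
  exact (isFinite_iff_locallyOfFiniteType_of_jacobsonSpace (f := X.left.fromSpecResidueField x ≫ X.hom)).mpr
    inferInstance

/-- Near every closed point some translate of a dense open contains the whole fibre. -/
theorem exists_good_point [LocallyOfFiniteType G.hom] [QuasiCompact G.hom]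
    {F : Sp (Spec (CommRingCat.of k))} (p : (yon _).obj G ⟶ F) (hpf : RepWith @Flat p)
    (hpl : RepWith @LocallyOfFinitePresentation p) {V : Set (Points F)} (hV : IsOpen V) (hVd : Dense V)
    {x : ↥G.left} (hx : x ∈ closedPoints ↥G.left) :
    ∃ γ₀ ∈ closedPoints ↥G.left, ∀ z : ↥(G ⊗ G).left, (fst G G).left z = x → (snd G G).left z = γ₀ →
      Points.ofPt p ((μ[G] : G ⊗ G ⟶ G).left z) ∈ V := by
  let P := resPt G x
  haveI : IsFinite P.hom := isFinite_resPt hx
  haveI : Flat P.hom := MonoFibre.flat_to_spec_field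
  haveI : LocallyOfFinitePresentation P.hom := LocallyOfFinitePresentation.iff_locallyOfFiniteType.mpr inferInstance
  let jx : P ⟶ G := Over.homMk (G.left.fromSpecResidueField x) rfl
  have sq := isPullback_left (isPullback_tensor P G)
  haveI : IsFinite (snd P G).left := MorphismProperty.of_isPullback (P := @IsFinite) sq
    (show IsFinite (toUnit P).left by simpa [Over.toUnit_left] using ‹IsFinite P.hom›)
  haveI : Flat (snd P G).left := MorphismProperty.of_isPullback (P := @Flat) sq
    (show Flat (toUnit P).left by simpa [Over.toUnit_left] using ‹Flat P.hom›)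
  haveI : LocallyOfFinitePresentation (snd P G).left :=
    MorphismProperty.of_isPullback (P := @LocallyOfFinitePresentation) sq
      (show LocallyOfFinitePresentation (toUnit P).left by
        simpa [Over.toUnit_left] using ‹LocallyOfFinitePresentation P.hom›)
  let sh : P ⊗ G ≅ P ⊗ G :=
    { hom := lift (fst P G) ((fst P G ≫ jx) * snd P G)
      inv := lift (fst P G) ((fst P G ≫ jx)⁻¹ * snd P G)
      hom_inv_id := by
        apply CartesianMonoidalCategory.hom_ext
        · simp
        · simp [MonObj.comp_mul, GrpObj.comp_inv]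
      inv_hom_id := by
        apply CartesianMonoidalCategory.hom_ext
        · simp
        · simp [MonObj.comp_mul] }
  haveI : IsIso sh.hom.left := ((Over.forget _).mapIso sh).isIso_hom
  let m : P ⊗ G ⟶ G := (jx ▷ G) ≫ μ[G]
  have hm : m = sh.hom ≫ snd P G := by
    simp only [m, sh, lift_snd, Hom.mul_def]
    congr 1
  have hmo : IsOpenMap m.left := by
    rw [hm, Over.comp_left]
    exact (sh.hom.left ≫ (snd P G).left).isOpenMap
  have hpo : IsOpenMap (Points.ofPt p) := by
    have h := isOpenMap_map_of_repWith (P := @Flat ⊓ @LocallyOfFinitePresentation)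
      (fun g hg => haveI := hg.1; haveI := hg.2; g.isOpenMap) (f := p)
      ⟨hpf.1, fun {T W} b f s sq => ⟨hpf.2 b f s sq, hpl.2 b f s sq⟩⟩
    rw [show Points.ofPt p = Points.map p ∘ Points.schemeHomeo G from funext fun v => Points.ofPt_eq_map_ofScheme p v]
    exact h.comp (Points.schemeHomeo G).isOpenMap
  have hcont : Continuous fun z => Points.ofPt p (m.left z) := (Points.continuous_ofPt p).comp m.left.continuous
  let W : Set ↥(P ⊗ G).left := (fun z => Points.ofPt p (m.left z)) ⁻¹' V
  have hWd : Dense W := hVd.preimage (hpo.comp hmo)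
  have hWo : IsOpen W := hV.preimage hcont
  let B : Set ↥G.left := ((snd P G).left '' Wᶜ)ᶜ
  have hBo : IsOpen B := ((snd P G).left.isClosedMap _ hWo.isClosed_compl).isOpen_compl
  haveI : IsLocallyNoetherian G.left := LocallyOfFiniteType.isLocallyNoetherian G.hom
  haveI : CompactSpace ↥G.left := QuasiCompact.compactSpace_of_compactSpace G.hom
  haveI : IsLocallyNoetherian (P ⊗ G).left := LocallyOfFiniteType.isLocallyNoetherian (snd P G).left
  haveI : CompactSpace ↥(P ⊗ G).left := QuasiCompact.compactSpace_of_compactSpace (snd P G).left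
  haveI : IsNoetherian (P ⊗ G).left := {}
  have hBne : B.Nonempty := by
    obtain ⟨ξ, -, hξ⟩ := MonoFibre.exists_isMaxPt x
    refine ⟨ξ, ?_⟩
    rintro ⟨z, hzW, hz⟩
    refine hzW (mem_of_dense_of_isMaxPt (fun z' h => ?_) hWo hWd)
    have h2 : (snd P G).left z' = ξ := hξ _ (hz ▸ h.map (snd P G).left.continuous)
    have hd := ((snd P G).left.isDiscrete_preimage_singleton ξ)
    rw [isDiscrete_iff_discreteTopology] at hd
    have h3 : (⟨z', h2⟩ : ↥((snd P G).left ⁻¹' {ξ})) ⤳ ⟨z, hz⟩ := Topology.IsInducing.subtypeVal.specializes_iff.mp h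
    exact congrArg Subtype.val h3.eq
  haveI : JacobsonSpace ↥G.left := LocallyOfFiniteType.jacobsonSpace G.hom
  obtain ⟨γ₀, hγB, hγ⟩ := nonempty_inter_closedPoints hBne hBo.isLocallyClosed
  refine ⟨γ₀, hγ, fun z hz₁ hz₂ => ?_⟩
  obtain ⟨z', hz'⟩ : z ∈ Set.range (jx ▷ G).left := by
    have sq' := isPullback_left (isPullback_whiskerRight jx G)
    obtain ⟨w, -, hw⟩ := Scheme.Pullback.exists_preimage_pullback (f := jx.left) (g := (fst G G).left)
      (IsLocalRing.closedPoint (G.left.residueField x)) z (by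
        rw [hz₁]; exact Scheme.fromSpecResidueField_apply x _)
    exact ⟨sq'.isoPullback.inv w, by rw [← Scheme.Hom.comp_apply, sq'.isoPullback_inv_snd]; exact hw⟩
  by_contra hcon
  refine hγB ⟨z', ?_, ?_⟩
  · change ¬ Points.ofPt p (m.left z') ∈ V
    rwa [show m.left z' = (μ[G] : G ⊗ G ⟶ G).left z by rw [← hz']; rfl]
  · rw [← hz₂, ← hz', ← Scheme.Hom.comp_apply, ← Over.comp_left, whiskerRight_snd]

set_option maxHeartbeats 1600000 in
/-- Every closed point has an open neighbourhood in the space of cosets which is a scheme. -/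
theorem exists_scheme_nhd [LocallyOfFiniteType G.hom] [QuasiCompact G.hom] (u : H ⟶ G)
    {F : Sp (Spec (CommRingCat.of k))} (p : (yon _).obj G ⟶ F) (hF : IsAlgSpace F)
    (hpf : RepWith @Flat p) (hpl : RepWith @LocallyOfFinitePresentation p) (hps : RepWith @Surjective p)
    (hpb : IsPullback ((yon _).map (cosetT u)) ((yon _).map (snd H G)) p p)
    {V : Over (Spec (CommRingCat.of k))} [IsAffine V.left] {c : (yon _).obj V ⟶ F}
    (hc : RepWith @IsOpenImmersion c) (hcd : Dense (Set.range (Points.map c)))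
    {x : ↥G.left} (hx : x ∈ closedPoints ↥G.left) :
    ∃ (M : Over (Spec (CommRingCat.of k))) (j : (yon _).obj M ⟶ F), RepWith @IsOpenImmersion j ∧
      Points.ofPt p x ∈ Set.range (Points.map j) := by
  obtain ⟨γ₀, hγ, hgood⟩ := exists_good_point p hpf hpl (isOpen_range_map hc) hcd hx
  let Q := resPt G γ₀
  haveI : IsFinite Q.hom := isFinite_resPt hγ
  haveI : Flat Q.hom := MonoFibre.flat_to_spec_field
  haveI : LocallyOfFinitePresentation Q.hom := LocallyOfFinitePresentation.iff_locallyOfFiniteType.mpr inferInstance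
  haveI : Surjective Q.hom := ⟨fun y => ⟨IsLocalRing.closedPoint (G.left.residueField γ₀),
    (inferInstanceAs (Subsingleton (PrimeSpectrum k)) : Subsingleton ↥(Spec (CommRingCat.of k))).elim _ _⟩⟩
  let jγ : Q ⟶ G := Over.homMk (G.left.fromSpecResidueField γ₀) rfl
  let F' := F ⨯ (yon _).obj Q
  have sqπ := (isPullback_prod F Q).flip
  have hπ : ∀ {P : MorphismProperty Scheme.{u}} [P.IsStableUnderBaseChange], P (toUnit Q).left →
      RepWith P (prod.fst : F' ⟶ F) := fun {P} _ h =>
    repWith_of_isPullback sqπ (repWith_yon_map (P := P) (g := toUnit Q) h)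
  have hπf : RepWith @IsFinite (prod.fst : F' ⟶ F) :=
    hπ (by simpa [Over.toUnit_left] using ‹IsFinite Q.hom›)
  have hπfl : RepWith @Flat (prod.fst : F' ⟶ F) := hπ (by simpa [Over.toUnit_left] using ‹Flat Q.hom›)
  have hπp : RepWith @LocallyOfFinitePresentation (prod.fst : F' ⟶ F) :=
    hπ (by simpa [Over.toUnit_left] using ‹LocallyOfFinitePresentation Q.hom›)
  have hπs : RepWith @Surjective (prod.fst : F' ⟶ F) :=
    hπ (by simpa [Over.toUnit_left] using ‹Surjective Q.hom›)
  have hF' : IsAlgSpace F' := isAlgSpace_prod hF (IsAlgSpace.yon_obj _)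
  obtain ⟨ψ, hψ⟩ := exists_translate_prod u p hpf hpl hps hpb jγ
  -- the translated affine open
  have sqc : IsPullback ((yon _).map (fst V Q)) (prod.lift ((yon _).map (fst V Q) ≫ c) ((yon _).map (snd V Q))) c
      (prod.fst : F' ⟶ F) := isPullback_pProd c Q
  let c₁ : (yon _).obj (V ⊗ Q) ⟶ F' := prod.lift ((yon _).map (fst V Q) ≫ c) ((yon _).map (snd V Q)) ≫ ψ.inv
  have hc₁ : RepWith @IsOpenImmersion c₁ := repWith_comp (repWith_of_isPullback sqc hc) (repWith_of_isIso _)
  haveI : IsAffine (V ⊗ Q).left := by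
    haveI : IsAffine Q.left := inferInstanceAs (IsAffine (Spec (G.left.residueField γ₀)))
    exact inferInstanceAs (IsAffine (pullback V.hom Q.hom))
  have hfib : ∀ f' : Points F', Points.map prod.fst f' = Points.ofPt p x → f' ∈ Set.range (Points.map c₁) := by
    intro f' hf'
    obtain ⟨z₁, hz₁, hz₂⟩ := points_exists_of_isPullback (isPullback_pProd p Q) (Points.schemeHomeo G x) f'
      (by rw [hf', Points.ofPt_eq_map_ofScheme]; rfl)
    obtain ⟨z, rfl⟩ := (Points.schemeHomeo (G ⊗ Q)).surjective z₁
    rw [Points.map_yon_map_apply] at hz₁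
    have hzx : (fst G Q).left z = x := (Points.schemeHomeo G).injective hz₁
    have hmem : Points.map (prod.fst : F' ⟶ F) (Points.map ψ.hom f') ∈ Set.range (Points.map c) := by
      rw [← hz₂, ← Points.map_comp, ← Points.map_comp, hψ, Points.map_comp,
        Points.map_yon_map_apply]
      have h := hgood ((lift (fst G Q) (snd G Q ≫ jγ)).left z)
        (by rw [← Scheme.Hom.comp_apply, ← Over.comp_left, lift_fst, hzx])
        (by rw [← Scheme.Hom.comp_apply, ← Over.comp_left, lift_snd, Over.comp_left, Scheme.Hom.comp_apply]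
            exact Scheme.fromSpecResidueField_apply γ₀ _)
      rw [← Scheme.Hom.comp_apply, ← Over.comp_left, ← Hom.mul_def, Points.ofPt_eq_map_ofScheme] at h
      exact h
    obtain ⟨y, hy⟩ := hmem
    obtain ⟨y', -, hy'⟩ := points_exists_of_isPullback sqc y (Points.map ψ.hom f') hy
    refine ⟨y', ?_⟩
    rw [Points.map_comp, hy', ← Points.map_comp, ψ.hom_inv_id, Points.map_id]
  -- the open subspace of points with fibre in the affine open
  let O : Set (Points F) := (Points.map (prod.fst : F' ⟶ F) '' (Set.range (Points.map c₁))ᶜ)ᶜ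
  have hO : IsOpen O := (isClosedMap_map_of_finite hπf _ (isOpen_range_map hc₁).isClosed_compl).isOpen_compl
  have hj := repWith_subι F O hO
  obtain ⟨E, e₁, e₂, sqE⟩ : ∃ (E : Sp (Spec (CommRingCat.of k))) (e₁ : E ⟶ subSp F O) (e₂ : E ⟶ F'),
      IsPullback e₁ e₂ (subι F O) prod.fst := ⟨_, _, _, IsPullback.of_hasPullback _ _⟩
  have he₂ : RepWith @IsOpenImmersion e₂ := repWith_of_isPullback sqE hj
  have he₂r : ∀ w, Points.map e₂ w ∈ Set.range (Points.map c₁) := by
    intro w
    by_contra hw
    have h : Points.map (subι F O) (Points.map e₁ w) ∈ O := (range_map_subι F O).le ⟨_, rfl⟩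
    rw [← Points.map_comp, sqE.w, Points.map_comp] at h
    exact h ⟨_, hw, rfl⟩
  obtain ⟨W, d₁, d₂, sqW⟩ : ∃ (W : Over (Spec (CommRingCat.of k))) (d₁ : (yon _).obj W ⟶ E) (d₂ : W ⟶ V ⊗ Q),
      IsPullback d₁ ((yon _).map d₂) e₂ c₁ := ⟨_, _, _, he₂.1.isPullback c₁⟩
  haveI : IsOpenImmersion d₂.left := he₂.2 _ _ _ sqW
  have hd₁ : RepWith @IsOpenImmersion d₁ := repWith_of_isPullback sqW.flip hc₁
  have hd₁s : RepWith @Surjective d₁ := by
    rw [repWith_surjective_iff hd₁.1]
    intro w
    obtain ⟨y, hy⟩ := he₂r w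
    obtain ⟨v, hv, -⟩ := points_exists_of_isPullback sqW w y hy.symm
    exact ⟨v, hv⟩
  haveI : Mono d₁ := mono_of_repWith (P := @IsOpenImmersion)
    (fun g hg => haveI : IsOpenImmersion g := hg; inferInstance) hd₁
  haveI : Sheaf.IsLocallySurjective d₁ := isLocallySurjective_of_repWith
    (repWith_mono (fun _ _ g (hg : IsOpenImmersion g) => inferInstanceAs (Flat g)) hd₁)
    (repWith_mono (fun _ _ g (hg : IsOpenImmersion g) => inferInstanceAs (LocallyOfFinitePresentation g)) hd₁) hd₁s
  haveI : IsIso d₁ := isIso_of_mono_of_locallySurjective d₁ ‹_›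
  have sqa : IsPullback d₁ (d₁ ≫ e₁) e₁ (𝟙 _) := IsPullback.of_horiz_isIso ⟨by simp⟩
  have sqb : IsPullback (d₁ ≫ e₁) (d₁ ≫ e₂) (subι F O) prod.fst :=
    IsPullback.of_iso sqE (asIso d₁).symm (Iso.refl _) (Iso.refl _) (Iso.refl _)
      (by simp) (by simp) (by simp) (by simp)
  obtain ⟨M, ⟨e⟩⟩ := exists_scheme_of_finite_chart (d₁ ≫ e₁) (repWith_of_isPullback sqb.flip hπf)
    (repWith_of_isPullback sqb.flip hπfl) (repWith_of_isPullback sqb.flip hπp)
    (repWith_of_isPullback sqb.flip hπs) fun A hA => by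
    haveI := hA.to_subtype
    obtain ⟨f, hf, hfx⟩ := FinGrpdLib.exists_basicOpen_mem (isAffineOpen_top (V ⊗ Q).left) d₂.left.opensRange
      (fun y : A => d₂.left y.1) (fun _ => trivial) (fun y => ⟨y.1, rfl⟩)
    exact ⟨d₂.left ⁻¹ᵁ (V ⊗ Q).left.basicOpen f,
      ((isAffineOpen_top _).basicOpen f).preimage_of_isOpenImmersion d₂.left hf, fun y hy => hfx ⟨y, hy⟩⟩
  refine ⟨M, e.hom ≫ subι F O, repWith_comp (repWith_of_isIso _) hj, ?_⟩
  have hxO : Points.ofPt p x ∈ O := by
    rintro ⟨f', hf', hf'x⟩
    exact hf' (hfib f' hf'x)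
  obtain ⟨w, hw⟩ := (range_map_subι F O).ge hxO
  exact ⟨Points.map e.inv w, by rw [← Points.map_comp, e.inv_hom_id_assoc, hw]⟩

/-- The quotient of an algebraic group over a field by a closed subgroup is a scheme. -/
theorem exists_quotient_field (H G : Over (Spec (CommRingCat.of k))) [GrpObj H] [GrpObj G]
    [LocallyOfFiniteType G.hom] [QuasiCompact G.hom] (u : H ⟶ G) [IsMonHom u] [IsClosedImmersion u.left] :
    ∃ (X : Over (Spec (CommRingCat.of k))) (q : G ⟶ X), IsSeparated X.hom ∧ LocallyOfFiniteType X.hom ∧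
      QuasiCompact X.hom ∧ Surjective q.left ∧ Flat q.left ∧ LocallyOfFinitePresentation q.left ∧
      IsPullback ((u ▷ G) ≫ μ[G]) (snd H G) q q := by
  obtain ⟨F, p, hF, hsep, _, hpb, hpf, hpl, hps⟩ := exists_coset_space u
  haveI : IsLocallyNoetherian G.left := LocallyOfFiniteType.isLocallyNoetherian G.hom
  haveI : CompactSpace ↥G.left := QuasiCompact.compactSpace_of_compactSpace G.hom
  haveI : IsNoetherian G.left := {}
  haveI : JacobsonSpace ↥G.left := LocallyOfFiniteType.jacobsonSpace G.hom
  obtain ⟨V, c, hV, hc, hcd⟩ := exists_dense_affine_open hF hsep p hps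
  choose M j hj hjx using fun x : closedPoints ↥G.left => exists_scheme_nhd u p hF hpf hpl hps hpb hc hcd x.2
  obtain ⟨X, ⟨e⟩⟩ := exists_scheme_of_openCover hF M j hj fun z => by
    obtain ⟨y, rfl⟩ := surjective_ofPt hps z
    obtain ⟨x₀, hx₀, hx₀c⟩ := nonempty_inter_closedPoints (show (closure {y}).Nonempty from ⟨y, subset_closure rfl⟩)
      isClosed_closure.isLocallyClosed
    exact ⟨⟨x₀, hx₀c⟩, (specializes_iff_mem_closure.2 hx₀).mem_open
      (Points.isOpen_iff.1 (isOpen_range_map (hj ⟨x₀, hx₀c⟩)) _ p) (hjx ⟨x₀, hx₀c⟩)⟩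
  let q : G ⟶ X := (yon _).preimage (p ≫ e.inv)
  have hq : (yon _).map q = p ≫ e.inv := (yon _).map_preimage _
  have hsq : IsPullback (𝟙 _) ((yon _).map q) p e.hom := IsPullback.of_horiz_isIso ⟨by simp [hq]⟩
  have hmul : ∀ {Q : MorphismProperty Scheme.{u}} [Q.IsStableUnderBaseChange],
      RepWith Q p → Q q.left := fun {Q} _ hQ =>
    (repWith_yon_map_iff Q q).1 (repWith_of_isPullback hsq hQ)
  haveI : Surjective q.left := hmul hps
  haveI : Flat q.left := hmul hpf
  haveI : LocallyOfFinitePresentation q.left := hmul hpl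
  haveI : LocallyOfFiniteType (q.left ≫ X.hom) := by rw [Over.w q]; infer_instance
  haveI : LocallyOfFinitePresentation (q.left ≫ X.hom) :=
    LocallyOfFinitePresentation.iff_locallyOfFiniteType.mpr inferInstance
  haveI : LocallyOfFinitePresentation X.hom :=
    FppfSrc.locallyOfFinitePresentation_of_precomp_fppf q.left X.hom
  haveI : CompactSpace ↥X.left := q.left.surjective.compactSpace q.left.continuous
  have hsepX : IsSeparated X.hom := by
    rw [isSeparated_iff, ← repWith_diag_yon_iff @IsClosedImmersion X]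
    refine repWith_of_isPullback (f := Limits.diag F) (g' := e.hom) (g := prod.map e.hom e.hom) ?_ hsep
    exact IsPullback.of_horiz_isIso ⟨by apply prod.hom_ext <;> simp [Limits.diag]⟩
  refine ⟨X, q, hsepX, inferInstance, inferInstance, ‹_›, ‹_›, ‹_›, IsPullback.of_map (yon _) ?_ ?_⟩
  · refine (yon _).map_injective ?_
    rw [Functor.map_comp, Functor.map_comp _ (snd H G) q, hq, ← Category.assoc, hpb.w, Category.assoc]
  · exact IsPullback.of_iso hpb (Iso.refl _) (Iso.refl _) (Iso.refl _) e.symm (by simp) (by simp)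
      (by simp [hq]) (by simp [hq])

end Groth.Agent.GrpQuotLib
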