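import Groth.Agent.ASp.EqvQuot
import Groth.Agent.ASp.Fpqc
import Groth.Agent.SchDesc.Cover
/-!
Quotient sheaves on big sites: criteria by local surjectivity and kernel pairs.
-/

set_option autoImplicit false
set_option backward.isDefEq.respectTransparency false
set_option backward.isDefEq.respectTransparency.types false

universe u

open CategoryTheory CategoryTheory.Limits AlgebraicGeometry Opposite

namespace Groth.Agent.GrpQuotLib

variable (K : Precoverage Scheme.{u}) {S : Scheme.{u}}

/-- The functor sending a scheme over `S` to its representable sheaf. -/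
noncomputable abbrev repFunctor (S : Scheme.{u}) : Over S ⥤ QuotSh.Sh K S :=
  CategoryTheory.uliftYoneda.{u + 1} ⋙ presheafToSheaf (QuotSh.J K S) (Type (u + 1))

/-- `M` represents `U/R` if `h_U → h_M` and `h_R → h_U ×_{h_M} h_U` are epimorphisms. -/
theorem isQuotient_of_epi {R U M P : Over S} (s t : R ⟶ U) (q : U ⟶ M) (w : s ≫ q = t ≫ q)
    {p₁ p₂ : P ⟶ U} (hP : IsPullback p₁ p₂ q q) (e : R ⟶ P) (he₁ : e ≫ p₁ = t) (he₂ : e ≫ p₂ = s)
    (h₂ : Epi (QuotSh.repMap K q)) (h₃ : Epi (QuotSh.repMap K e)) : QuotSh.IsQuotient K s t q := by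
  refine ⟨w, ?_⟩
  let F := repFunctor K S
  have hF : IsPullback (QuotSh.repMap K p₁) (QuotSh.repMap K p₂) (QuotSh.repMap K q) (QuotSh.repMap K q) :=
    hP.map F
  have hc : QuotSh.repMap K p₁ ≫ QuotSh.quotπ K s t = QuotSh.repMap K p₂ ≫ QuotSh.quotπ K s t := by
    haveI := h₃
    rw [← cancel_epi (QuotSh.repMap K e), ← Category.assoc, ← Category.assoc]
    change (F.map e ≫ F.map p₁) ≫ _ = (F.map e ≫ F.map p₂) ≫ _
    rw [← F.map_comp, ← F.map_comp, he₁, he₂]
    exact (QuotSh.quot_condition K (s := s) (t := t)).symm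
  haveI := h₂
  have := IsRegularEpiCategory.regularEpiOfEpi (QuotSh.repMap K q)
  let h := IsRegularEpi.getStruct (QuotSh.repMap K q)
  let φ := RegularEpi.desc' h (QuotSh.quotπ K s t) (by
    rw [← hF.lift_fst h.left h.right h.w, Category.assoc, hc, hF.lift_snd_assoc])
  have hπ : QuotSh.quotπ K s t ≫ QuotSh.quotDesc K q w = QuotSh.repMap K q := coequalizer.π_desc _ _
  refine ⟨φ.1, ?_, ?_⟩
  · refine coequalizer.hom_ext ?_
    change QuotSh.quotπ K s t ≫ QuotSh.quotDesc K q w ≫ φ.1 = QuotSh.quotπ K s t ≫ 𝟙 _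
    rw [← Category.assoc, hπ, φ.2, Category.comp_id]
  · rw [← cancel_epi (QuotSh.repMap K q), ← Category.assoc, φ.2, hπ, Category.comp_id]

variable {K}

/-- An equivalence relation is the kernel pair of the map to a scheme representing its quotient sheaf. -/
theorem isPullback_of_isQuotient [(QuotSh.J K S).Subcanonical] {R U M : Over S} {s t : R ⟶ U} {q : U ⟶ M}
    (h : _root_.AlgSp.IsEqvRel s t) (hq : QuotSh.IsQuotient K s t q) : IsPullback t s q q := by
  obtain ⟨w, hiso⟩ := hq
  let G := presheafToSheaf (QuotSh.J K S) (Type (u + 1))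
  have h1 := (Groth.Agent.ASp.isPullback_of_eqvRel h).map G
  let c := PreservesCoequalizer.iso G ((_root_.AlgSp.pyon S).map s) ((_root_.AlgSp.pyon S).map t)
  have hπ : G.map (coequalizer.π ((_root_.AlgSp.pyon S).map s) ((_root_.AlgSp.pyon S).map t)) ≫ c.inv =
      QuotSh.quotπ K s t := map_π_preserves_coequalizer_inv G _ _
  let d : G.obj (coequalizer ((_root_.AlgSp.pyon S).map s) ((_root_.AlgSp.pyon S).map t)) ⟶ QuotSh.rep K M :=
    c.inv ≫ QuotSh.quotDesc K q w
  haveI : IsIso d := IsIso.comp_isIso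
  have hd : G.map (coequalizer.π _ _) ≫ d = QuotSh.repMap K q := by
    rw [← Category.assoc, hπ]
    exact coequalizer.π_desc _ _
  have h2 : IsPullback (QuotSh.repMap K t) (QuotSh.repMap K s) (QuotSh.repMap K q) (QuotSh.repMap K q) :=
    IsPullback.of_iso h1 (Iso.refl _) (Iso.refl _) (Iso.refl _) (asIso d)
      (by simp; rfl) (by simp; rfl) (by simpa using hd) (by simpa using hd)
  have hnat : ∀ {V W : Over S} (g : V ⟶ W), QuotSh.repMap K g ≫
      (QuotSh.repIsoUliftYoneda K W).hom =
        (QuotSh.repIsoUliftYoneda K V).hom ≫ (QuotSh.J K S).uliftYoneda.{u + 1}.map g := fun {V W} g => by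
    simp only [QuotSh.repIsoUliftYoneda, Iso.symm_hom]
    rw [Iso.eq_inv_comp, ← Category.assoc, Iso.comp_inv_eq]
    exact (sheafificationNatIso (QuotSh.J K S) (Type (u + 1))).hom.naturality
      ((QuotSh.J K S).uliftYoneda.{u + 1}.map g) |>.symm
  have h3 : IsPullback ((QuotSh.J K S).uliftYoneda.{u + 1}.map t) ((QuotSh.J K S).uliftYoneda.{u + 1}.map s)
      ((QuotSh.J K S).uliftYoneda.{u + 1}.map q) ((QuotSh.J K S).uliftYoneda.{u + 1}.map q) :=
    h2.of_iso (QuotSh.repIsoUliftYoneda K R) (QuotSh.repIsoUliftYoneda K U) (QuotSh.repIsoUliftYoneda K U)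
      (QuotSh.repIsoUliftYoneda K M) (hnat t) (hnat s) (hnat q) (hnat q)
  exact IsPullback.of_map_of_faithful _ h3

variable {P : MorphismProperty Scheme.{u}}

/-- A covering morphism gives an epimorphism of representable sheaves. -/
theorem epi_repMap_of_cover [P.IsStableUnderBaseChange] {U M : Over S} (q : U ⟶ M) (hq : P q.left)
    [Surjective q.left] : Epi (QuotSh.repMap (Scheme.precoverage P) q) := by
  haveI : Presheaf.IsLocallySurjective (QuotSh.J (Scheme.precoverage P) S)
      ((_root_.AlgSp.pyon S).map q) := ⟨fun {T} y => by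
    rw [GrothendieckTopology.mem_over_iff]
    refine GrothendieckTopology.superset_covering _ ?_ (Precoverage.generate_mem_toGrothendieck
      ((Scheme.singleton_mem_precoverage_iff P (pullback.fst y.down.left q.left)).2
        ⟨(inferInstance : Surjective (pullback.fst y.down.left q.left)).surj, MorphismProperty.pullback_fst _ _ hq⟩))
    rw [Sieve.generate_le_iff]
    intro Z g hg
    cases hg
    let Z' : Over S := Over.mk (pullback.fst y.down.left q.left ≫ T.hom)
    refine ⟨Z', Over.homMk (pullback.fst _ _) rfl, 𝟙 _, ⟨⟨Over.homMk (pullback.snd _ _) ?_⟩, ?_⟩, (Category.id_comp _).symm⟩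
    · change pullback.snd _ _ ≫ U.hom = pullback.fst _ _ ≫ T.hom
      rw [← Over.w q, ← pullback.condition_assoc]
      exact congrArg _ (Over.w y.down)
    · exact ULift.ext _ _ (Over.OverMorphism.ext pullback.condition.symm)⟩
  haveI : Sheaf.IsLocallySurjective (QuotSh.repMap (Scheme.precoverage P) q) :=
    (Presheaf.isLocallySurjective_presheafToSheaf_map_iff _ _).2 ‹_›
  exact (Sheaf.isLocallySurjective_iff_epi _).1 ‹_›

/-- An epimorphism of representable sheaves has sections on a covering. -/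
theorem exists_lift_of_epi_repMap [P.IsStableUnderBaseChange] [P.IsMultiplicative] {U M : Over S} (q : U ⟶ M)
    (h : Epi (QuotSh.repMap (Scheme.precoverage P) q)) (y : M.left) :
    ∃ (W : Over S) (c : W ⟶ M) (l : W ⟶ U), P c.left ∧ y ∈ Set.range c.left ∧ l ≫ q = c := by
  have : (Scheme.precoverage P).HasIsos := inferInstance
  have h' : Sheaf.IsLocallySurjective (QuotSh.repMap (Scheme.precoverage P) q) :=
    (Sheaf.isLocallySurjective_iff_epi _).2 h
  haveI : Presheaf.IsLocallySurjective (QuotSh.J (Scheme.precoverage P) S) ((_root_.AlgSp.pyon S).map q) :=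
    (Presheaf.isLocallySurjective_presheafToSheaf_map_iff _ _).1 h'
  have hR := Presheaf.imageSieve_mem (QuotSh.J (Scheme.precoverage P) S) ((_root_.AlgSp.pyon S).map q)
    (U := op M) ⟨𝟙 M⟩
  rw [GrothendieckTopology.mem_over_iff, Precoverage.mem_toGrothendieck_iff_of_isStableUnderComposition] at hR
  obtain ⟨R₀, hR₀, hle⟩ := hR
  obtain ⟨Y, k, hk, hY⟩ : ∃ (Y : Scheme.{u}) (k : Y ⟶ M.left), R₀ k ∧ y ∈ Set.range k := by
    obtain ⟨Y, k, ⟨hk⟩, hY⟩ := hR₀.1 y
    exact ⟨_, _, hk, hY⟩
  obtain ⟨Z, a, b, ⟨l, hl⟩, hb⟩ := hle _ _ hk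
  let W : Over S := Over.mk (k ≫ M.hom)
  let b' : W ⟶ Z := Over.homMk b (by
    change b ≫ Z.hom = k ≫ M.hom
    rw [← Over.w a]
    exact (Category.assoc _ _ _).symm.trans (congrArg (· ≫ M.hom) hb.symm))
  refine ⟨W, b' ≫ a, b' ≫ l.down, ?_, ?_, ?_⟩
  · rw [show (b' ≫ a).left = k from hb.symm]; exact hR₀.2 hk
  · rw [show (b' ≫ a).left = k from hb.symm]; exact hY
  · have e : l.down ≫ q = a ≫ 𝟙 M := congrArg ULift.down hl
    rw [Category.assoc, e, Category.comp_id]

/-- A quotient map for the topology of a property has that property, when the relation has it. -/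
theorem prop_of_isKernelPair [P.IsStableUnderBaseChange] [IsZariskiLocalAtSource P]
    [P.DescendsAlong (@Surjective ⊓ @Flat ⊓ @LocallyOfFinitePresentation)]
    (hP : P ≤ (@Flat ⊓ @LocallyOfFinitePresentation : MorphismProperty Scheme.{u})) {R U M : Over S} {s t : R ⟶ U} {q : U ⟶ M}
    (hk : IsPullback t s q q) (ht : P t.left)
    (hl : ∀ y : M.left, ∃ (W : Over S) (c : W ⟶ M) (l : W ⟶ U), P c.left ∧ y ∈ Set.range c.left ∧ l ≫ q = c) :
    P q.left ∧ Surjective q.left := by
  choose W c l hc hy hlq using hl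
  refine ⟨?_, ⟨fun y => ?_⟩⟩
  · let C : (∐ fun y => (W y).left) ⟶ M.left := Limits.Sigma.desc fun y => (c y).left
    let L : (∐ fun y => (W y).left) ⟶ U.left := Limits.Sigma.desc fun y => (l y).left
    have hLC : L ≫ q.left = C := Sigma.hom_ext _ _ fun y => by
      simp only [L, C, Sigma.ι_desc_assoc, Sigma.ι_desc, ← Over.comp_left, hlq]
    have hC : (@Surjective ⊓ @Flat ⊓ @LocallyOfFinitePresentation : MorphismProperty Scheme.{u}) C := by
      refine ⟨⟨⟨fun y => ?_⟩, ?_⟩, ?_⟩
      · obtain ⟨w, hw⟩ := hy y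
        refine ⟨Sigma.ι (fun y => (W y).left) y w, ?_⟩
        rw [← Scheme.Hom.comp_apply, Sigma.ι_desc]
        exact hw
      · exact IsZariskiLocalAtSource.sigmaDesc fun y => (hP _ (hc y)).1
      · exact IsZariskiLocalAtSource.sigmaDesc fun y => (hP _ (hc y)).2
    have hk' : IsPullback t.left s.left q.left q.left := hk.map (Over.forget S)
    refine MorphismProperty.of_pullback_snd_of_descendsAlong (f := q.left) (g := C) hC ?_
    let V := pullback t.left L
    have sq : IsPullback (pullback.fst t.left L ≫ s.left) (pullback.snd t.left L) q.left C := by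
      rw [← hLC]
      exact (IsPullback.of_hasPullback t.left L).paste_horiz hk'.flip
    rw [← sq.isoPullback_inv_snd, P.cancel_left_of_respectsIso]
    exact MorphismProperty.pullback_snd _ _ ht
  · obtain ⟨w, hw⟩ := hy y
    refine ⟨(l y).left w, ?_⟩
    rw [← Scheme.Hom.comp_apply, ← Over.comp_left, hlq, hw]

/-- The relation of an `IsEquivalenceRelation` pair, on points; the second projection is the first
composed with the symmetry. -/
theorem isEqvRel_and_symm {R U : Over S} (s t : R ⟶ U) [IsEquivalenceRelation s t] :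
    _root_.AlgSp.IsEqvRel s t ∧ ∃ σ : R ⟶ R, IsIso σ ∧ σ ≫ s = t := by
  obtain ⟨E⟩ := IsEquivalenceRelation.nonempty_equivalenceRelation (p₁ := s) (p₂ := t)
  have hj := E.toReflexiveRelation.toJointlyMono₂.right_cancellation
  refine ⟨⟨fun T r r' h1 h2 => hj r r' h2 h1, fun T => ⟨fun a => ?_, fun {a b} h => ?_, fun {a b d} h h' => ?_⟩⟩,
    E.s, ⟨E.s, ?_, ?_⟩, E.symmetry₁⟩
  · exact ⟨a ≫ E.r, by rw [Category.assoc, E.reflexivity₂, Category.comp_id],
      by rw [Category.assoc, E.reflexivity₁, Category.comp_id]⟩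
  · obtain ⟨r, rfl, rfl⟩ := h
    exact ⟨r ≫ E.s, by rw [Category.assoc, E.symmetry₂], by rw [Category.assoc, E.symmetry₁]⟩
  · obtain ⟨r, rfl, hb⟩ := h
    obtain ⟨r', hb', rfl⟩ := h'
    let l := PullbackCone.IsLimit.lift E.isLimit r' r (hb'.trans hb.symm)
    refine ⟨l ≫ E.t, ?_, ?_⟩
    · rw [Category.assoc, E.transitivity₂, ← Category.assoc, PullbackCone.IsLimit.lift_snd]
    · rw [Category.assoc, E.transitivity₁, ← Category.assoc, PullbackCone.IsLimit.lift_fst]
  all_goals
    refine hj _ _ ?_ ?_ <;> simp [E.symmetry₁, E.symmetry₂]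

/-- Representable quotients for the topology of `P`. -/
theorem isKernelPair_cover_iff_isQuotient [P.IsStableUnderBaseChange] [P.IsMultiplicative] [IsZariskiLocalAtSource P]
    [P.DescendsAlong (@Surjective ⊓ @Flat ⊓ @LocallyOfFinitePresentation)]
    (hP : P ≤ (@Flat ⊓ @LocallyOfFinitePresentation : MorphismProperty Scheme.{u})) [(QuotSh.J (Scheme.precoverage P) S).Subcanonical]
    {R U Y : Over S} (s t : R ⟶ U) [IsEquivalenceRelation s t] (hs : P s.left) (q : U ⟶ Y) :
    (IsKernelPair q s t ∧ P q.left ∧ Surjective q.left) ↔ QuotSh.IsQuotient (Scheme.precoverage P) s t q := by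
  obtain ⟨hE, σ, hσi, hσ⟩ := isEqvRel_and_symm s t
  constructor
  · rintro ⟨hk, hq, hqs⟩
    haveI : Epi (QuotSh.repMap (Scheme.precoverage P) (𝟙 R)) := by
      change Epi ((repFunctor (Scheme.precoverage P) S).map (𝟙 R))
      rw [CategoryTheory.Functor.map_id]; infer_instance
    exact isQuotient_of_epi _ s t q hk.w hk.flip (𝟙 R) (Category.id_comp _) (Category.id_comp _)
      (epi_repMap_of_cover q hq) ‹_›
  · intro hq
    have hk := isPullback_of_isQuotient hE hq
    haveI : IsIso σ.left := inferInstanceAs (IsIso ((Over.forget S).map σ))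
    have ht : P t.left := by rw [← hσ, Over.comp_left, P.cancel_left_of_respectsIso]; exact hs
    obtain ⟨w, hiso⟩ := hq
    have he : Epi (QuotSh.repMap (Scheme.precoverage P) q) := by
      rw [show QuotSh.repMap (Scheme.precoverage P) q =
        QuotSh.quotπ (Scheme.precoverage P) s t ≫ QuotSh.quotDesc _ q w from (coequalizer.π_desc _ _).symm]
      haveI : Epi (QuotSh.quotπ (Scheme.precoverage P) s t) := inferInstanceAs (Epi (coequalizer.π _ _))
      infer_instance
    obtain ⟨h1, h2⟩ := prop_of_isKernelPair hP hk ht (exists_lift_of_epi_repMap q he)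
    exact ⟨hk.flip, h1, h2⟩

end Groth.Agent.GrpQuotLib
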