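import Groth.Agent.ASp.Sub
import Groth.Agent.ASp.Univ
import Groth.Agent.ASp.Affine
import Groth.Agent.ASp.Sheaf
import Groth.Agent.FinGrpdLib.EqvQuot
import Groth.Agent.GenFin.Scheme
import Groth.Agent.Unibranch.Open
import Groth.Agent.MonoFibre.Orbit
import Groth.Agent.FpqcDesc.Basic
import Groth.Agent.GrpQuotLib.Orbit
/-!
An algebraic space with a quasi-compact separated etale chart has a dense open subspace which is a scheme.
-/

set_option backward.isDefEq.respectTransparency false
set_option backward.isDefEq.respectTransparency.types false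
set_option linter.style.haveILetI false

universe u

open CategoryTheory CategoryTheory.Limits AlgebraicGeometry Opposite

namespace Groth.Agent.GrpQuotLib

open _root_.AlgSp Groth.Agent.ASp

variable {S : Scheme.{u}}

/-- The kernel pair of a map out of a scheme is an equivalence relation. -/
theorem isEqvRel_of_kernelPair {X : Sp S} {R U : Over S} {a : (yon S).obj U ⟶ X} {s t : R ⟶ U}
    (sq : IsPullback ((yon S).map t) ((yon S).map s) a a) : _root_.AlgSp.IsEqvRel s t := by
  have key : ∀ {T : Over S} (x y : T ⟶ U), (∃ r : T ⟶ R, r ≫ t = x ∧ r ≫ s = y) ↔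
      (yon S).map x ≫ a = (yon S).map y ≫ a := by
    intro T x y
    constructor
    · rintro ⟨r, rfl, rfl⟩
      rw [Functor.map_comp, Functor.map_comp, Category.assoc, Category.assoc, sq.w]
    · intro e
      obtain ⟨r, hr⟩ := (yon S).map_surjective (sq.lift _ _ e)
      exact ⟨r, (yon S).map_injective (by rw [Functor.map_comp, hr, sq.lift_fst]),
        (yon S).map_injective (by rw [Functor.map_comp, hr, sq.lift_snd])⟩
  exact
    { injective := fun T r r' h1 h2 => (yon S).map_injective (sq.hom_ext
        (by rw [← Functor.map_comp, ← Functor.map_comp, h1]) (by rw [← Functor.map_comp, ← Functor.map_comp, h2]))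
      equivalence := fun T => ⟨fun x => (key x x).2 rfl, fun h => (key _ _).2 ((key _ _).1 h).symm,
        fun h h' => (key _ _).2 (((key _ _).1 h).trans ((key _ _).1 h'))⟩ }

/-- A finite locally free surjective chart with orbits in affine opens gives a scheme. -/
theorem exists_scheme_of_finite_chart {X : Sp S} {U : Over S} (a : (yon S).obj U ⟶ X) (hf : RepWith @IsFinite a)
    (hfl : RepWith @Flat a) (hlp : RepWith @LocallyOfFinitePresentation a) (hs : RepWith @Surjective a)
    (ho : ∀ A : Set ↥U.left, A.Finite → ∃ V : U.left.Opens, IsAffineOpen V ∧ A ⊆ V) :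
    ∃ M : Over S, Nonempty ((yon S).obj M ≅ X) := by
  obtain ⟨R, t, s, sq⟩ := exists_isPullback_yon hf.1 a
  haveI : IsFinite s.left := hf.2 _ _ _ sq
  haveI : Flat s.left := hfl.2 _ _ _ sq
  haveI : LocallyOfFinitePresentation s.left := hlp.2 _ _ _ sq
  obtain ⟨M, q, ⟨hqf, hqfl, hqp⟩, hqb, hqs, -⟩ := FinGrpdLib.exists_quotient_of_isEqvRel
    (isEqvRel_of_kernelPair sq) (fun x => by
      obtain ⟨V, hV, hA⟩ := ho (t.left '' (s.left ⁻¹' {x}))
        ((IsFinite.finite_preimage_singleton s.left x).image _)
      exact ⟨V, hV, fun r hr => hA ⟨r, hr, rfl⟩⟩)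
  haveI := hqfl
  haveI := hqp
  haveI := hqs
  haveI : Epi a := by
    haveI : Sheaf.IsLocallySurjective a := isLocallySurjective_of_repWith hfl hlp hs
    infer_instance
  haveI : Epi ((yon S).map q) := by
    haveI : Sheaf.IsLocallySurjective ((yon S).map q) := isLocallySurjective_of_repWith
      (repWith_yon_map (P := @Flat) (g := q) ‹_›)
      (repWith_yon_map (P := @LocallyOfFinitePresentation) (g := q) ‹_›)
      (repWith_yon_map (P := @Surjective) (g := q) ‹_›)
    infer_instance
  have hq : IsPullback ((yon S).map t) ((yon S).map s) ((yon S).map q) ((yon S).map q) :=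
    isPullback_yon_map (IsPullback.of_map (Over.forget S)
      (Over.OverMorphism.ext hqb.w) hqb)
  obtain ⟨m, hm⟩ := exists_desc_of_epi a sq ((yon S).map q) hq.w
  obtain ⟨n, hn⟩ := exists_desc_of_epi ((yon S).map q) hq a sq.w
  exact ⟨M, ⟨{ hom := n, inv := m
               hom_inv_id := by rw [← cancel_epi ((yon S).map q), reassoc_of% hn, hm, Category.comp_id]
               inv_hom_id := by rw [← cancel_epi a, reassoc_of% hm, hn, Category.comp_id] }⟩⟩

/-- An algebraic space with a quasi-compact separated etale chart has a dense open subscheme. -/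
theorem exists_open_scheme {X : Sp S} (hX : IsAlgSpace X) {R U : Over S} [IsAffine U.left]
    {a : (yon S).obj U ⟶ X} (ha : RepWith @Etale a) (has₀ : RepWith @Surjective a) {t s : R ⟶ U}
    (sq : IsPullback ((yon S).map t) ((yon S).map s) a a) [IsSeparated s.left] [QuasiCompact s.left] :
    ∃ (M : Over S) (c : (yon S).obj M ⟶ X), RepWith @IsOpenImmersion c ∧ Dense (Set.range (Points.map c)) := by
  haveI : Etale s.left := ha.2 _ _ _ sq
  haveI := Groth.Agent.Unibranch.locallyQuasiFinite_of_etale s.left
  choose Vη _ hηV hVfin using fun η : {η : ↥U.left // MonoFibre.IsMaxPt η} =>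
    GenFin.exists_isFinite s.left η.1 η.2 (s.left.finite_preimage_singleton η.1)
  let V : U.left.Opens := ⨆ η, Vη η
  have hVd : Dense (V : Set ↥U.left) := fun x => by
    obtain ⟨ξ, hξ, hmax⟩ := MonoFibre.exists_isMaxPt x
    exact hξ.mem_closed isClosed_closure
      (subset_closure (TopologicalSpace.Opens.mem_iSup.mpr ⟨⟨ξ, hmax⟩, hηV _⟩))
  haveI hVf : IsFinite (s.left ∣_ V) := by
    refine (IsZariskiLocalAtTarget.iff_of_iSup_eq_top (P := @IsFinite) (fun η => V.ι ⁻¹ᵁ Vη η) ?_).mpr fun η => ?_
    · rw [eq_top_iff]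
      rintro ⟨z, hz⟩ -
      obtain ⟨η, hη⟩ := TopologicalSpace.Opens.mem_iSup.mp hz
      exact TopologicalSpace.Opens.mem_iSup.mpr ⟨η, hη⟩
    · haveI := hVfin η
      rw [MorphismProperty.arrow_mk_iso_iff @IsFinite (morphismRestrictRestrict s.left V _)]
      rw [show V.ι ''ᵁ (V.ι ⁻¹ᵁ Vη η) = Vη η from by
        rw [Scheme.Hom.image_preimage_eq_opensRange_inf, Scheme.Opens.opensRange_ι, inf_eq_right]
        exact le_iSup Vη η]
      exact hVfin η
  let O : Set (Points X) := Points.ofPt a '' (V : Set ↥U.left)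
  have hO : IsOpen O := isOpenMap_ofPt_of_etale ha _ V.isOpen
  have hj := repWith_subι X O hO
  haveI : Mono (subι X O) := mono_of_repWith (P := @IsOpenImmersion)
    (fun g hg => haveI : IsOpenImmersion g := hg; inferInstance) hj
  let P : Over S := hj.1.pullback a
  obtain ⟨aW, ιP, sqP⟩ : ∃ (aW : (yon S).obj P ⟶ subSp X O) (ιP : P ⟶ U),
      IsPullback aW ((yon S).map ιP) (subι X O) a := ⟨_, _, hj.1.isPullback a⟩
  haveI : IsOpenImmersion ιP.left := hj.2 _ _ _ sqP
  let UV : Over S := Over.mk (V.ι ≫ U.hom)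
  let ιV : UV ⟶ U := Over.homMk V.ι rfl
  obtain ⟨cV, hcV⟩ := exists_lift_subι X O ((yon S).map ιV ≫ a) (fun w => by
    rw [ofPt_yon_map_comp]; exact ⟨w.1, w.2, rfl⟩)
  have hΩ : IsAlgSpace (subSp X O) := isAlgSpace_subSp hX hO
  have hae : RepWith @Etale aW := repWith_of_isPullback sqP.flip ha
  -- surjectivity
  have has : RepWith @Surjective aW := by
    rw [repWith_surjective_iff hae.1]
    intro y
    obtain ⟨v, hv, e⟩ := (range_map_subι X O).le ⟨y, rfl⟩
    obtain ⟨w, hw, -⟩ := points_exists_of_isPullback sqP y (Points.schemeHomeo U v) (by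
      rw [← e, Points.ofPt_eq_map_ofScheme]; rfl)
    exact ⟨w, hw⟩
  -- finiteness descends from `V`
  have haf : RepWith @IsFinite aW := by
    let RV : Over S := pullback s ιV
    have sqV : IsPullback ((yon S).map (pullback.fst s ιV ≫ t)) ((yon S).map (pullback.snd s ιV)) a
        (cV ≫ subι X O) := by
      rw [hcV, Functor.map_comp]
      exact (isPullback_yon_map (IsPullback.of_hasPullback s ιV)).paste_horiz sq
    let l := sqP.lift ((yon S).map (pullback.snd s ιV) ≫ cV) ((yon S).map (pullback.fst s ιV ≫ t))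
      (by rw [Category.assoc]; exact sqV.w.symm)
    have sqL : IsPullback l ((yon S).map (pullback.snd s ιV)) aW cV := by
      refine IsPullback.of_right ?_ (sqP.lift_fst _ _ _) sqP.flip
      rw [sqP.lift_snd]
      exact sqV
    have hcs : ∀ y : Points (subSp X O), ∃ _ : PUnit.{u + 1}, y ∈ Set.range (Points.map cV) := by
      intro y
      obtain ⟨v, hv, e⟩ := (range_map_subι X O).le ⟨y, rfl⟩
      refine ⟨PUnit.unit, Points.schemeHomeo UV ⟨v, hv⟩, ?_⟩
      refine injective_map_of_repWith (P := @IsOpenImmersion)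
        (fun g hg => haveI : IsOpenImmersion g := hg; g.isOpenEmbedding.injective) hj ?_
      rw [← e, ← Points.map_comp, hcV, Points.map_comp, Points.map_yon_map_apply, Points.ofPt_eq_map_ofScheme]
      rfl
    have hce : RepWith @Etale cV := by
      have sqc : IsPullback cV (𝟙 _) (subι X O) ((yon S).map ιV ≫ a) :=
        IsPullback.of_isLimit' ⟨by rw [hcV, Category.id_comp]⟩ (PullbackCone.IsLimit.mk _ (fun c => c.snd)
          (fun c => by rw [← cancel_mono (subι X O), Category.assoc, hcV, c.condition])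
          (fun c => Category.comp_id _) (fun c m h1 h2 => by simpa using h2))
      haveI : Etale ιV.left := inferInstanceAs (Etale V.ι)
      exact repWith_of_isPullback sqc.flip (repWith_comp (repWith_yon_map (P := @Etale) (g := ιV) ‹_›) ha)
    haveI := FpqcDesc.isFinite_descends.{u}
    haveI : IsFinite (pullback.snd s ιV).left := by
      have A := (isPullback_left (IsPullback.of_hasPullback s ιV)).flip
      have B := isPullback_morphismRestrict s.left V
      rw [← A.isoIsPullback_hom_fst _ _ B]
      infer_instance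
    refine repWith_of_fpqc (P := @IsFinite) hae.1 (fun _ : PUnit.{u + 1} => sqL)
      (isFpqcCover_of_fppf hΩ (fun _ => IsAlgSpace.yon_obj _)
        (fun _ => locP_of_repWith (repWith_mono (fun _ _ g (hg : Etale g) => inferInstanceAs (Flat g)) hce))
        (fun _ => locP_of_repWith (repWith_mono
          (fun _ _ g (hg : Etale g) => inferInstanceAs (LocallyOfFinitePresentation g)) hce)) hcs)
      fun _ => repWith_yon_map (P := @IsFinite) (g := pullback.snd s ιV) ‹_›
  obtain ⟨M, ⟨e⟩⟩ := exists_scheme_of_finite_chart aW haf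
    (repWith_mono (fun _ _ g (hg : Etale g) => inferInstanceAs (Flat g)) hae)
    (repWith_mono (fun _ _ g (hg : Etale g) => inferInstanceAs (LocallyOfFinitePresentation g)) hae) has fun A hA => by
    haveI := hA.to_subtype
    obtain ⟨f, hf, hfx⟩ := FinGrpdLib.exists_basicOpen_mem (isAffineOpen_top U.left) ιP.left.opensRange
      (fun y : A => ιP.left y.1) (fun _ => trivial) (fun y => ⟨y.1, rfl⟩)
    exact ⟨ιP.left ⁻¹ᵁ U.left.basicOpen f,
      ((isAffineOpen_top _).basicOpen f).preimage_of_isOpenImmersion ιP.left hf, fun y hy => hfx ⟨y, hy⟩⟩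
  refine ⟨M, e.hom ≫ subι X O, repWith_comp (repWith_of_isIso _) hj, ?_⟩
  rw [show Set.range (Points.map (e.hom ≫ subι X O)) = O by
    refine Eq.trans ?_ (range_map_subι X O)
    ext y
    constructor
    · rintro ⟨w, rfl⟩; exact ⟨Points.map e.hom w, (Points.map_comp _ _ _).symm⟩
    · rintro ⟨w, rfl⟩
      exact ⟨Points.map e.inv w, by rw [← Points.map_comp, e.inv_hom_id_assoc]⟩]
  refine dense_iff_inter_open.mpr fun O' hO' ⟨y, hy⟩ => ?_
  obtain ⟨x, rfl⟩ := surjective_ofPt has₀ y
  obtain ⟨x', hx'⟩ := hVd.inter_open_nonempty _ (Points.isOpen_iff.1 hO' U a) ⟨x, hy⟩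
  exact ⟨Points.ofPt a x', hx'.1, x', hx'.2, rfl⟩

end Groth.Agent.GrpQuotLib
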