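import Groth.Agent.GrpQuotLib.SepDiag
import Groth.Agent.GrpQuotLib.OpenScheme
import Groth.Agent.GrpQuotLib.OnePointGrp
import Groth.Agent.GrpSchLib.Separated
import Groth.Agent.ASp.Morph
/-!
The algebraic space of cosets of a closed subgroup over a field.
-/

set_option backward.isDefEq.respectTransparency false
set_option backward.isDefEq.respectTransparency.types false
set_option linter.style.haveILetI false

universe u

open CategoryTheory CategoryTheory.Limits MonoidalCategory CartesianMonoidalCategory MonObj AlgebraicGeometry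

noncomputable section

namespace Groth.Agent.GrpQuotLib

open _root_.AlgSp Groth.Agent.ASp

variable {k : Type u} [Field k]

variable {H G : Over (Spec (CommRingCat.of k))} [GrpObj H] [GrpObj G]

/-- The relation of a subgroup acting by translation. -/
abbrev cosetT (u : H ⟶ G) : H ⊗ G ⟶ G := (u ▷ G) ≫ μ[G]

theorem lift_cosetT (u : H ⟶ G) {T : Over (Spec (CommRingCat.of k))} (a : T ⟶ H) (b : T ⟶ G) :
    lift a b ≫ cosetT u = (a ≫ u) * b := by
  simp [cosetT, Hom.mul_def]

theorem coset_props [LocallyOfFiniteType G.hom] (u : H ⟶ G) [IsMonHom u] [IsClosedImmersion u.left] :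
    IsEqvRel (snd H G) (cosetT u) ∧ Flat (cosetT u).left ∧ LocallyOfFinitePresentation (cosetT u).left ∧
      IsClosedImmersion (lift (cosetT u) (snd H G)).left := by
  haveI : Mono u := Over.mono_of_mono_left u
  haveI : LocallyOfFiniteType H.hom := by rw [← Over.w u]; infer_instance
  haveI : LocallyOfFinitePresentation H.hom := LocallyOfFinitePresentation.iff_locallyOfFiniteType.mpr inferInstance
  haveI : Flat H.hom := MonoFibre.flat_to_spec_field
  let t : H ⊗ G ⟶ G := cosetT u
  have ht := @lift_cosetT k _ H G _ _ u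
  let sh : G ⊗ G ≅ G ⊗ G :=
    { hom := lift (fst G G * snd G G) (snd G G)
      inv := lift (fst G G * (snd G G)⁻¹) (snd G G)
      hom_inv_id := by
        apply CartesianMonoidalCategory.hom_ext
        · simp [MonObj.comp_mul, GrpObj.comp_inv]
        · simp
      inv_hom_id := by
        apply CartesianMonoidalCategory.hom_ext
        · simp [MonObj.comp_mul]
        · simp }
  let e : H ⊗ G ≅ H ⊗ G :=
    { hom := lift (fst H G) (((fst H G) ≫ u) * snd H G)
      inv := lift (fst H G) (((fst H G) ≫ u)⁻¹ * snd H G)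
      hom_inv_id := by
        apply CartesianMonoidalCategory.hom_ext
        · simp
        · simp [MonObj.comp_mul, GrpObj.comp_inv]
      inv_hom_id := by
        apply CartesianMonoidalCategory.hom_ext
        · simp
        · simp [MonObj.comp_mul] }
  have het : t = e.hom ≫ snd H G := by
    rw [lift_snd, ← ht, CartesianMonoidalCategory.lift_fst_snd, Category.id_comp]
  haveI : IsIso e.hom.left := ((Over.forget _).mapIso e).isIso_hom
  have sq := isPullback_left (A := H ⊗ G) (IsPullback.of_isLimit' ⟨Subsingleton.elim _ _⟩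
    (PullbackCone.IsLimit.mk (fst := fst H G) (snd := snd H G) (f := toUnit H) (g := toUnit G) _
      (fun c => lift c.fst c.snd) (fun c => lift_fst _ _) (fun c => lift_snd _ _)
      (fun c m h1 h2 => CartesianMonoidalCategory.hom_ext _ _ (by simpa using h1) (by simpa using h2))))
  haveI : Flat (snd H G).left := MorphismProperty.of_isPullback (P := @Flat) sq
    (show Flat (toUnit H).left by simpa [Over.toUnit_left] using ‹Flat H.hom›)
  haveI : LocallyOfFinitePresentation (snd H G).left :=
    MorphismProperty.of_isPullback (P := @LocallyOfFinitePresentation) sq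
      (show LocallyOfFinitePresentation (toUnit H).left by
        simpa [Over.toUnit_left] using ‹LocallyOfFinitePresentation H.hom›)
  haveI : Flat t.left := by rw [het, Over.comp_left]; infer_instance
  haveI : LocallyOfFinitePresentation t.left := by rw [het, Over.comp_left]; infer_instance
  have hg : lift t (snd H G) = (u ▷ G) ≫ sh.hom := by
    apply CartesianMonoidalCategory.hom_ext
    · rw [lift_fst, Category.assoc, lift_fst, MonObj.comp_mul, whiskerRight_fst, whiskerRight_snd,
        ← ht, CartesianMonoidalCategory.lift_fst_snd, Category.id_comp]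
    · simp [sh]
  haveI : IsIso sh.hom.left := ((Over.forget _).mapIso sh).isIso_hom
  haveI : IsClosedImmersion (u ▷ G).left := by
    have sq' := isPullback_left (A := H ⊗ G) (B := H) (C := G ⊗ G) (D := G) (a := fst H G) (b := u ▷ G) (c := u)
      (d := fst G G) (IsPullback.of_isLimit' ⟨(whiskerRight_fst _ _).symm⟩ (PullbackCone.IsLimit.mk _
        (fun c => lift c.fst (c.snd ≫ snd G G)) (fun c => lift_fst _ _)
        (fun c => CartesianMonoidalCategory.hom_ext _ _ (by simp [c.condition]) (by simp))
        (fun c m h1 h2 => CartesianMonoidalCategory.hom_ext _ _ (by simpa using h1)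
          (by simpa using congrArg (· ≫ snd G G) h2))))
    exact MorphismProperty.of_isPullback (P := @IsClosedImmersion) sq' ‹_›
  haveI : IsClosedImmersion (lift t (snd H G)).left := by rw [hg, Over.comp_left]; infer_instance
  haveI : Mono (lift t (snd H G)) := Over.mono_of_mono_left _
  refine ⟨
    { injective := fun T r r' h1 h2 => (cancel_mono (lift t (snd H G))).1
        (CartesianMonoidalCategory.hom_ext _ _ (by simpa using h1) (by simpa using h2))
      equivalence := fun T => by
        refine ⟨fun a => ⟨lift (1 : T ⟶ H) a, ?_, lift_snd _ _⟩, fun {a b} ⟨r, h1, h2⟩ =>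
          ⟨lift (r ≫ fst H G)⁻¹ a, ?_, lift_snd _ _⟩, fun {a b c} ⟨r, h1, h2⟩ ⟨r', h1', h2'⟩ =>
          ⟨lift ((r ≫ fst H G) * (r' ≫ fst H G)) c, ?_, lift_snd _ _⟩⟩
        · rw [ht, MonObj.one_comp, _root_.one_mul]
        · have hr : a = ((r ≫ fst H G) ≫ u) * b := by rw [← ht, ← h1, ← h2, ← comp_lift, lift_fst_snd, Category.comp_id]
          rw [ht, GrpObj.inv_comp, hr, inv_mul_cancel_left]
        · have hr : a = ((r ≫ fst H G) ≫ u) * b := by rw [← ht, ← h1, ← h2, ← comp_lift, lift_fst_snd, Category.comp_id]
          have hr' : b = ((r' ≫ fst H G) ≫ u) * c := by rw [← ht, ← h1', ← h2', ← comp_lift, lift_fst_snd, Category.comp_id]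
          rw [ht, MonObj.mul_comp, _root_.mul_assoc, ← hr', ← hr] }, ‹_›, ‹_›, ‹_›⟩

/-- The separated algebraic space of cosets. -/
theorem exists_coset_space [LocallyOfFiniteType G.hom] (u : H ⟶ G) [IsMonHom u] [IsClosedImmersion u.left] :
    ∃ (F : Sp (Spec (CommRingCat.of k))) (p : (yon _).obj G ⟶ F), IsAlgSpace F ∧ IsSeparatedSp F ∧ Epi p ∧
      IsPullback ((yon _).map (cosetT u)) ((yon _).map (snd H G)) p p ∧
      RepWith @Flat p ∧ RepWith @LocallyOfFinitePresentation p ∧ RepWith @Surjective p := by
  obtain ⟨h, _, _, hc⟩ := coset_props u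
  obtain ⟨p, -, hpb, hchart, hdiag, hepi⟩ := exists_flat_presentation h
  have : Sheaf.IsLocallySurjective p := (Sheaf.isLocallySurjective_iff_epi _).2 hepi
  obtain ⟨hpf, hpl, hps⟩ := repWith_flat_surjective_of_kernelPair p hpb
  exact ⟨_, p, isAlgSpace_of_fppfChart (IsAlgSpace.yon_obj G) hchart,
    repWith_diag_of_chart hpb hchart hdiag @IsClosedImmersion FpqcDesc.isClosedImmersion_descends hc,
    hepi, hpb, hpf, hpl, hps⟩

theorem hom_ext_yon_tensor {A B : Over (Spec (CommRingCat.of k))} {Z : Sp (Spec (CommRingCat.of k))}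
    (a c : Z ⟶ (yon _).obj (A ⊗ B)) (ha : a ≫ (yon _).map (fst A B) = c ≫ (yon _).map (fst A B))
    (hc : a ≫ (yon _).map (snd A B) = c ≫ (yon _).map (snd A B)) : a = c := by
  refine hom_ext_yon fun T g => ?_
  obtain ⟨α, hα⟩ := (yon _).map_surjective (g ≫ a)
  obtain ⟨γ', hγ⟩ := (yon _).map_surjective (g ≫ c)
  rw [← hα, ← hγ]
  refine congrArg _ (CartesianMonoidalCategory.hom_ext _ _ ((yon _).map_injective ?_) ((yon _).map_injective ?_))
  · rw [Functor.map_comp, Functor.map_comp, hα, hγ, Category.assoc, Category.assoc, ha]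
  · rw [Functor.map_comp, Functor.map_comp, hα, hγ, Category.assoc, Category.assoc, hc]

end Groth.Agent.GrpQuotLib
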