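import Groth.Agent.GrpQuotLib.Orbit
import Groth.Agent.FpqcDesc.Stalk
/-!
The image of the graph of an action with flat stabiliser of the diagonal.
-/

set_option autoImplicit false
set_option maxHeartbeats 1000000

universe u

open CategoryTheory CategoryTheory.Limits MonoidalCategory CartesianMonoidalCategory MonObj AlgebraicGeometry

namespace Groth.Agent.GrpQuotLib

variable {S : Scheme.{u}}

section

variable {G X : Over S} [GrpObj G] (a : AlgGrp.Action G X)

/-- The base change comparing stabiliser of the diagonal and kernel pair of the graph. -/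
theorem exists_isPullback_graph :
    ∃ (W : Over S) (r₁ r₂ : W ⟶ G ⊗ X),
      IsPullback r₁ r₂ (lift a.act (snd G X)) (lift a.act (snd G X)) ∧
      ∃ q : W ⟶ pullback (lift a.act (snd G X)) (lift (𝟙 X) (𝟙 X)),
        IsPullback r₂ q (snd G X) (pullback.snd (lift a.act (snd G X)) (lift (𝟙 X) (𝟙 X))) := by
  let d := lift a.act (snd G X)
  let Δ := lift (𝟙 X) (𝟙 X)
  let F := pullback d Δ
  let j : F ⟶ G ⊗ X := pullback.fst d Δ
  let π : F ⟶ X := pullback.snd d Δ
  have hjs : j ≫ snd G X = π := by
    have := congrArg (· ≫ snd X X) (pullback.condition (f := d) (g := Δ))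
    simpa [d, Δ, j, π] using this
  have hja : j ≫ a.act = π := by
    have := congrArg (· ≫ fst X X) (pullback.condition (f := d) (g := Δ))
    simpa [d, Δ, j, π] using this
  have hfix : lift (j ≫ fst G X) π ≫ a.act = π := by
    rw [← hjs, lift_comp_fst_snd]
    exact hja.trans hjs.symm
  let W := pullback (snd G X) π
  let r₂ : W ⟶ G ⊗ X := pullback.fst (snd G X) π
  let q : W ⟶ F := pullback.snd (snd G X) π
  let x : W ⟶ X := r₂ ≫ snd G X
  have hx : q ≫ π = x := pullback.condition.symm
  let r₁ : W ⟶ G ⊗ X := lift ((r₂ ≫ fst G X) * (q ≫ j ≫ fst G X)) x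
  refine ⟨W, r₁, r₂, IsPullback.of_isLimit' ⟨?_⟩ (PullbackCone.IsLimit.mk _ (fun c => pullback.lift c.snd
    (pullback.lift (lift ((c.snd ≫ fst G X)⁻¹ * (c.fst ≫ fst G X)) (c.snd ≫ snd G X)) (c.snd ≫ snd G X) ?_) ?_)
    (fun c => ?_) (fun c => pullback.lift_fst _ _ _) (fun c l h1 h2 => ?_)), q, IsPullback.of_hasPullback _ _⟩
  · apply CartesianMonoidalCategory.hom_ext
    · simp only [Category.assoc, lift_fst]
      rw [show r₁ ≫ a.act = lift ((r₂ ≫ fst G X) * (q ≫ j ≫ fst G X)) x ≫ a.act from rfl, mul_smul]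
      have : lift (q ≫ j ≫ fst G X) x ≫ a.act = x := by
        rw [← hx, ← comp_lift_assoc, hfix]
      rw [this, show x = r₂ ≫ snd G X from rfl, ← comp_lift, lift_fst_snd, Category.comp_id]
    · simp only [Category.assoc, lift_snd]
      simp [r₁, x]
  · have e := congrArg (· ≫ fst X X) c.condition
    have e' := congrArg (· ≫ snd X X) c.condition
    simp only [Category.assoc, lift_fst, lift_snd] at e e'
    apply CartesianMonoidalCategory.hom_ext
    · simp only [Category.assoc, Δ, lift_fst, d, Category.comp_id]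
      rw [mul_smul, show lift (c.fst ≫ fst G X) (c.snd ≫ snd G X) = c.fst by rw [← e', lift_comp_fst_snd],
        e, show c.snd ≫ a.act = lift (c.snd ≫ fst G X) (c.snd ≫ snd G X) ≫ a.act by rw [lift_comp_fst_snd],
        ← mul_smul, inv_mul_cancel, one_smul]
    · simp [d, Δ]
  · exact (pullback.lift_snd _ _ _).symm
  · have e' := congrArg (· ≫ snd X X) c.condition
    simp only [Category.assoc, lift_snd] at e'
    apply CartesianMonoidalCategory.hom_ext
    · simp only [Category.assoc, r₁, lift_fst, MonObj.comp_mul]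
      simp only [r₂, q, j, pullback.lift_fst_assoc, pullback.lift_snd_assoc, lift_fst]
      rw [mul_inv_cancel_left]
    · simp only [Category.assoc, r₁, lift_snd, x]
      simp only [r₂, pullback.lift_fst_assoc]
      exact e'.symm
  · apply pullback.hom_ext
    · rw [pullback.lift_fst]; exact h2
    · rw [pullback.lift_snd]
      apply pullback.hom_ext
      · rw [pullback.lift_fst]
        apply CartesianMonoidalCategory.hom_ext
        · rw [lift_fst, ← h1, ← h2]
          simp only [r₁, Category.assoc, lift_fst, MonObj.comp_mul]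
          rw [inv_mul_cancel_left]
        · rw [lift_snd, ← h2, Category.assoc, Category.assoc]
          simp only [j] at hjs
          rw [hjs, Category.assoc, hx]
      · rw [pullback.lift_snd, ← h2, Category.assoc, Category.assoc, hx]

/-- The action is surjective, flat, finitely presented and quasi-compact if the group is. -/
theorem act_props [Flat G.hom] [LocallyOfFinitePresentation G.hom] [QuasiCompact G.hom] :
    (Surjective a.act.left ∧ Flat a.act.left ∧ LocallyOfFinitePresentation a.act.left ∧ QuasiCompact a.act.left) ∧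
    (Surjective (snd G X).left ∧ Flat (snd G X).left ∧ LocallyOfFinitePresentation (snd G X).left ∧ QuasiCompact (snd G X).left) := by
  have h2 : Surjective (snd G X).left ∧ Flat (snd G X).left ∧ LocallyOfFinitePresentation (snd G X).left ∧
      QuasiCompact (snd G X).left := by
    refine ⟨⟨fun x => ⟨(lift (1 : X ⟶ G) (𝟙 X)).left x, ?_⟩⟩, inferInstanceAs (Flat (pullback.snd G.hom X.hom)),
      inferInstanceAs (LocallyOfFinitePresentation (pullback.snd G.hom X.hom)),
      inferInstanceAs (QuasiCompact (pullback.snd G.hom X.hom))⟩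
    rw [← Scheme.Hom.comp_apply, ← Over.comp_left, lift_snd]
    rfl
  let σ : G ⊗ X ≅ G ⊗ X :=
    { hom := lift (fst G X) a.act
      inv := lift (fst G X) (lift (fst G X)⁻¹ (snd G X) ≫ a.act)
      hom_inv_id := by
        apply CartesianMonoidalCategory.hom_ext
        · simp
        · rw [Category.assoc, lift_snd, comp_lift_assoc, GrpObj.comp_inv, lift_fst, lift_snd, Category.id_comp]
          calc lift (fst G X)⁻¹ a.act ≫ a.act
              = lift (fst G X)⁻¹ (lift (fst G X) (snd G X) ≫ a.act) ≫ a.act := by rw [lift_fst_snd, Category.id_comp]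
            _ = snd G X := by rw [← mul_smul, inv_mul_cancel, one_smul]
      inv_hom_id := by
        apply CartesianMonoidalCategory.hom_ext
        · simp
        · rw [Category.assoc, lift_snd, Category.id_comp, ← mul_smul_self a] }
  have he : a.act = σ.hom ≫ snd G X := (lift_snd _ _).symm
  haveI : IsIso σ.hom.left := inferInstanceAs (IsIso ((Over.forget S).mapIso σ).hom)
  obtain ⟨s1, s2, s3, s4⟩ := h2
  refine ⟨⟨?_, ?_, ?_, ?_⟩, s1, s2, s3, s4⟩ <;> (rw [he, Over.comp_left]; infer_instance)
where
  mul_smul_self (a : AlgGrp.Action G X) :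
      snd G X = lift (fst G X) (lift (fst G X)⁻¹ (snd G X) ≫ a.act) ≫ a.act := by
    rw [← mul_smul, mul_inv_cancel, one_smul]

end

/-- Properties descending to the middle of a factorisation. -/
theorem descend_props {A B C : Scheme.{u}} (f : A ⟶ B) (g : B ⟶ C) (w : A ⟶ C) (h : f ≫ g = w) [Surjective f]
    [Flat f] [LocallyOfFinitePresentation f] [Surjective w] [Flat w] [LocallyOfFinitePresentation w] [QuasiCompact w] :
    Surjective g ∧ Flat g ∧ LocallyOfFinitePresentation g ∧ QuasiCompact g := by
  subst h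
  refine ⟨Surjective.of_comp f g, Groth.Agent.FlatDescStalk.flat_of_comp f g,
    Groth.Agent.FppfSrc.locallyOfFinitePresentation_of_precomp_fppf f g, ⟨fun K hK hK' => ?_⟩⟩
  have h := (QuasiCompact.isCompact_preimage (f := f ≫ g) K hK hK').image f.continuous
  rwa [Scheme.Hom.comp_base, TopCat.coe_comp, Set.preimage_comp, Set.image_preimage_eq _ f.surjective] at h

/-- The image of the graph of an action on a Noetherian base. -/
theorem image_graph_iff (S : Scheme.{u}) [IsNoetherian S] (G X : Over S) [GrpObj G]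
    [Flat G.hom] [LocallyOfFiniteType G.hom] [QuasiCompact G.hom] [LocallyOfFiniteType X.hom] [QuasiCompact X.hom]
    (a : AlgGrp.Action G X) :
    ((∃ (Y : Over S) (ψ : G ⊗ X ⟶ Y) (τ : Y ⟶ X ⊗ X), ψ ≫ τ = lift a.act (snd G X) ∧
        Surjective ψ.left ∧ Flat ψ.left ∧ LocallyOfFinitePresentation ψ.left ∧ Mono τ) ↔
      Flat (pullback.snd (lift a.act (snd G X)) (lift (𝟙 X) (𝟙 X))).left) ∧
    (∀ (Y : Over S) (ψ : G ⊗ X ⟶ Y) (τ : Y ⟶ X ⊗ X), ψ ≫ τ = lift a.act (snd G X) →
      Surjective ψ.left → Flat ψ.left → LocallyOfFinitePresentation ψ.left → Mono τ →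
      (Surjective (τ ≫ fst X X).left ∧ Flat (τ ≫ fst X X).left ∧ LocallyOfFinitePresentation (τ ≫ fst X X).left ∧
        QuasiCompact (τ ≫ fst X X).left ∧ QuasiSeparated (τ ≫ fst X X).left ∧
       Surjective (τ ≫ snd X X).left ∧ Flat (τ ≫ snd X X).left ∧ LocallyOfFinitePresentation (τ ≫ snd X X).left ∧
        QuasiCompact (τ ≫ snd X X).left ∧ QuasiSeparated (τ ≫ snd X X).left)) := by
  haveI : LocallyOfFinitePresentation G.hom := LocallyOfFinitePresentation.iff_locallyOfFiniteType.mpr ‹_›
  haveI : LocallyOfFinitePresentation X.hom := LocallyOfFinitePresentation.iff_locallyOfFiniteType.mpr ‹_›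
  haveI : LocallyOfFinitePresentation (G ⊗ X).hom :=
    inferInstanceAs (LocallyOfFinitePresentation (pullback.fst G.hom X.hom ≫ G.hom))
  haveI : LocallyOfFiniteType (X ⊗ X).hom :=
    inferInstanceAs (LocallyOfFiniteType (pullback.fst X.hom X.hom ≫ X.hom))
  obtain ⟨W, r₁, r₂, hR, q, hq⟩ := exists_isPullback_graph a
  refine ⟨⟨?_, fun h => ?_⟩, ?_⟩
  · rintro ⟨Y, ψ, τ, hψτ, -, hψ, -, hτ⟩
    haveI := hτ
    haveI := hψ
    have sq : IsPullback r₁ r₂ ψ ψ :=
      IsPullback.of_isLimit' ⟨(cancel_mono τ).1 (by rw [Category.assoc, Category.assoc, hψτ]; exact hR.w)⟩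
        (PullbackCone.IsLimit.mk _ (fun c => hR.lift c.fst c.snd (by rw [← hψτ, c.condition_assoc]))
          (fun c => hR.lift_fst _ _ _) (fun c => hR.lift_snd _ _ _)
          (fun c l h1 h2 => hR.hom_ext (by simpa using h1) (by simpa using h2)))
    have hr₂ : Flat r₂.left := MorphismProperty.of_isPullback (isPullback_left sq) hψ
    let π := pullback.snd (lift a.act (snd G X)) (lift (𝟙 X) (𝟙 X))
    let s : X ⟶ G ⊗ X := lift (1 : X ⟶ G) (𝟙 X)
    let l := hq.lift (π ≫ s) (𝟙 _) (by simp [s, π])
    have hl₁ : l ≫ r₂ = π ≫ s := hq.lift_fst _ _ _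
    have hl₂ : l ≫ q = 𝟙 _ := hq.lift_snd _ _ _
    have hs : s ≫ snd G X = 𝟙 X := lift_snd _ _
    have out : IsPullback (l ≫ q) π π (s ≫ snd G X) := by
      rw [hl₂, hs]
      exact IsPullback.of_horiz_isIso ⟨by simp⟩
    have sqF : IsPullback l π r₂ s := IsPullback.of_right out hl₁ hq.flip
    exact MorphismProperty.of_isPullback (isPullback_left sqF) hr₂
  · haveI : Flat r₂.left := MorphismProperty.of_isPullback (isPullback_left hq).flip h
    obtain ⟨Y, ψ, τ, h1, h2, h3, h4, h5, -, -⟩ := exists_mono_factor_over (lift a.act (snd G X)) hR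
    exact ⟨Y, ψ, τ, h1, h2, h3, h4, h5⟩
  · intro Y ψ τ h h1 h2 h3 h4
    obtain ⟨⟨a1, a2, a3, a4⟩, b1, b2, b3, b4⟩ := act_props a
    haveI : Mono τ.left := by
      haveI : Mono ((Over.forget S).map τ) := inferInstance
      exact this
    haveI : IsLocallyNoetherian X.left := LocallyOfFiniteType.isLocallyNoetherian X.hom
    haveI : QuasiSeparated X.hom := QuasiSeparated.of_comp X.hom (terminal.from S)
    obtain ⟨c1, c2, c3, c4⟩ := descend_props ψ.left (τ ≫ fst X X).left a.act.left (by
      rw [← Over.comp_left, ← Category.assoc, h, lift_fst])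
    obtain ⟨d1, d2, d3, d4⟩ := descend_props ψ.left (τ ≫ snd X X).left (snd G X).left (by
      rw [← Over.comp_left, ← Category.assoc, h, lift_snd])
    haveI : QuasiSeparated (fst X X).left := inferInstanceAs (QuasiSeparated (pullback.fst X.hom X.hom))
    haveI : QuasiSeparated (snd X X).left := inferInstanceAs (QuasiSeparated (pullback.snd X.hom X.hom))
    refine ⟨c1, c2, c3, c4, ?_, d1, d2, d3, d4, ?_⟩ <;> (rw [Over.comp_left]; infer_instance)

end Groth.Agent.GrpQuotLib
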