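import Groth.Agent.ASp.FlatQuot
import Groth.Agent.ASp.Bootstrap
import Groth.Agent.ASp.DecentPoint
import Groth.Agent.ASp.DecentQS
import Groth.Agent.ASp.QSBase
import Groth.Agent.Boot.Helpers
import Groth.Agent.GrpQuotLib.Orbit
import Groth.Agent.SchDesc.TorsorDesc
import Groth.Agent.FpqcDesc.Basic
/-!
A flat equivalence relation with a single orbit and quasi-compact graph has an affine one point quotient.
-/

set_option backward.isDefEq.respectTransparency false
set_option backward.isDefEq.respectTransparency.types false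
set_option linter.style.haveILetI false

universe u

open CategoryTheory CategoryTheory.Limits MonoidalCategory CartesianMonoidalCategory AlgebraicGeometry Opposite

namespace Groth.Agent.GrpQuotLib

open _root_.AlgSp Groth.Agent.ASp

variable {S : Scheme.{u}}

/-- Quotient of a flat equivalence relation with one orbit. -/
theorem exists_quotient_onePoint {R U : Over S} {s t : R ⟶ U} (h : IsEqvRel s t) [Flat t.left]
    [LocallyOfFinitePresentation t.left] [QuasiCompact (lift t s).left] (u₀ : ↥U.left)
    (hpt : ∀ x : ↥U.left, ∃ r : ↥R.left, t.left r = x ∧ s.left r = u₀) :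
    ∃ (P : Over S) (p : U ⟶ P), IsAffine P.left ∧ Subsingleton ↥P.left ∧ Surjective p.left ∧ Flat p.left ∧
      LocallyOfFinitePresentation p.left ∧ IsPullback t s p p := by
  obtain ⟨p, -, hpb, hchart, hdiag, hepi⟩ := exists_flat_presentation h
  have : Sheaf.IsLocallySurjective p := (Sheaf.isLocallySurjective_iff_epi _).2 hepi
  obtain ⟨hpf, hpl, hps⟩ := repWith_flat_surjective_of_kernelPair p hpb
  generalize QuotSh.quot Scheme.fppfPrecoverage s t = F at p hpb hchart hdiag hepi hpf hpl hps
  have hF : IsAlgSpace F := isAlgSpace_of_fppfChart (IsAlgSpace.yon_obj U) hchart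
  have hpts : ∀ x : ↥U.left, Points.map p (Points.ofScheme U x) = Points.map p (Points.ofScheme U u₀) := fun x => by
    obtain ⟨r, rfl, hr⟩ := hpt x
    rw [← hr]
    change Points.map p (Points.schemeHomeo U _) = Points.map p (Points.schemeHomeo U _)
    rw [← Points.map_yon_map_apply, ← Points.map_yon_map_apply, ← Points.map_comp, ← Points.map_comp, hpb.w]
  haveI : Subsingleton (Points F) := by
    refine ⟨fun a b => ?_⟩
    obtain ⟨a', rfl⟩ := surjective_map_of_repWith hps a
    obtain ⟨b', rfl⟩ := surjective_map_of_repWith hps b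
    obtain ⟨x, rfl⟩ := (Points.schemeHomeo U).surjective a'
    obtain ⟨y, rfl⟩ := (Points.schemeHomeo U).surjective b'
    exact (hpts x).trans (hpts y).symm
  haveI : Nonempty (Points F) := ⟨Points.map p (Points.ofScheme U u₀)⟩
  have hqs : IsQuasiSeparatedSp F := by
    refine ⟨hdiag, fun {W V} b fst' snd' sq => ?_⟩
    obtain ⟨C₁, b₁, a₁, h₁f, h₁l, h₁s, e₁⟩ := hchart.exists_lift (b ≫ prod.fst)
    obtain ⟨C₂, b₂, a₂, h₂f, h₂l, h₂s, e₂⟩ := hchart.exists_lift ((yon S).map b₁ ≫ b ≫ prod.snd)
    obtain ⟨α₁, rfl⟩ := (yon S).map_surjective a₁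
    obtain ⟨α₂, rfl⟩ := (yon S).map_surjective a₂
    let cW : C₂ ⟶ W := b₂ ≫ b₁
    haveI : Flat cW.left := inferInstanceAs (Flat (b₂.left ≫ b₁.left))
    haveI : LocallyOfFinitePresentation cW.left := inferInstanceAs (LocallyOfFinitePresentation (b₂.left ≫ b₁.left))
    haveI : Surjective cW.left := inferInstanceAs (Surjective (b₂.left ≫ b₁.left))
    let l : C₂ ⟶ U ⊗ U := lift (b₂ ≫ α₁) α₂
    have hjm : ∀ {Z : Sp S} (a c : Z ⟶ (yon S).obj (U ⊗ U)), a ≫ (yon S).map (fst U U) = c ≫ (yon S).map (fst U U) →
        a ≫ (yon S).map (snd U U) = c ≫ (yon S).map (snd U U) → a = c := fun a c ha hc => by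
      refine hom_ext_yon fun T g => ?_
      obtain ⟨α, hα⟩ := (yon S).map_surjective (g ≫ a)
      obtain ⟨γ', hγ⟩ := (yon S).map_surjective (g ≫ c)
      rw [← hα, ← hγ]
      refine congrArg _ (CartesianMonoidalCategory.hom_ext _ _ ((yon S).map_injective ?_) ((yon S).map_injective ?_))
      · rw [Functor.map_comp, Functor.map_comp, hα, hγ, Category.assoc, Category.assoc, ha]
      · rw [Functor.map_comp, Functor.map_comp, hα, hγ, Category.assoc, Category.assoc, hc]
    have sqd := Groth.Agent.Boot.isPullback_diag_kernelPair p hpb ((yon S).map (lift t s))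
      (q₁ := (yon S).map (fst U U)) (q₂ := (yon S).map (snd U U))
      (by rw [← Functor.map_comp, lift_fst]) (by rw [← Functor.map_comp, lift_snd]) hjm
    have hl : (yon S).map l ≫ prod.lift ((yon S).map (fst U U) ≫ p) ((yon S).map (snd U U) ≫ p) =
        (yon S).map cW ≫ b := by
      apply prod.hom_ext
      · rw [Category.assoc, prod.lift_fst, ← Category.assoc, ← Functor.map_comp, lift_fst, Functor.map_comp,
          Category.assoc, e₁, Functor.map_comp, Category.assoc, Category.assoc]
      · rw [Category.assoc, prod.lift_snd, ← Category.assoc, ← Functor.map_comp, lift_snd, e₂, Functor.map_comp,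
          Category.assoc, Category.assoc]
    have sqR := (isPullback_yon_map (IsPullback.of_hasPullback (lift t s) l)).paste_horiz sqd
    rw [hl] at sqR
    have sqV := (isPullback_yon_map (IsPullback.of_hasPullback snd' cW)).paste_horiz sq
    let e := sqV.isoIsPullback _ _ sqR
    obtain ⟨e', he'⟩ := (yon S).map_surjective e.hom
    have he : e' ≫ pullback.snd (lift t s) l = pullback.snd snd' cW := (yon S).map_injective (by
      rw [Functor.map_comp, he']; exact sqV.isoIsPullback_hom_snd _ _ sqR)
    haveI : IsIso e' := by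
      haveI : IsIso ((yon S).map e') := by rw [he']; infer_instance
      exact isIso_of_fully_faithful (yon S) e'
    haveI : QuasiCompact (pullback.snd (lift t s) l).left :=
      MorphismProperty.of_isPullback (P := @QuasiCompact)
        (isPullback_left (IsPullback.of_hasPullback (lift t s) l)) ‹_›
    haveI : IsIso e'.left := inferInstanceAs (IsIso ((Over.forget S).map e'))
    have hq : QuasiCompact (pullback.snd snd' cW).left := by
      rw [← he, Over.comp_left]; infer_instance
    haveI : SchDesc.IsFpqc cW.left := SchDesc.IsFpqc.of_locallyOfFinitePresentation cW.left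
    have sq' := isPullback_left (IsPullback.of_hasPullback snd' cW)
    refine TorsorDesc.prop_of_isFpqc @QuasiCompact FpqcDesc.quasiCompact_descends snd'.left cW.left ?_
    rw [← sq'.isoPullback_inv_snd]
    haveI := hq
    infer_instance
  obtain ⟨P, hP, ⟨e⟩⟩ := exists_affine_of_subsingleton hF
    (isDecent_of_qs hF (isTerminalYonBase.from F) (isQuasiSeparatedMor_toBase hqs _))
  let q : U ⟶ P := (yon S).preimage (p ≫ e.inv)
  have hq : (yon S).map q = p ≫ e.inv := (yon S).map_preimage _
  have hsq : IsPullback (𝟙 _) ((yon S).map q) p e.hom := IsPullback.of_horiz_isIso ⟨by simp [hq]⟩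
  have hmul : ∀ {Q : MorphismProperty Scheme.{u}} [Q.IsStableUnderBaseChange],
      RepWith Q p → Q q.left := fun {Q} _ hQ =>
    (repWith_yon_map_iff Q q).1 (repWith_of_isPullback hsq hQ)
  haveI : Subsingleton (Points ((yon S).obj P)) :=
    (Function.LeftInverse.injective (g := Points.map e.inv) fun x => by
      rw [← Points.map_comp, e.hom_inv_id, Points.map_id]).subsingleton (f := Points.map e.hom)
  refine ⟨P, q, hP, (Points.schemeHomeo P).injective.subsingleton, hmul hps, hmul hpf, hmul hpl, ?_⟩
  refine IsPullback.of_map (yon S) ((yon S).map_injective ?_) ?_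
  · rw [Functor.map_comp, Functor.map_comp, hq, ← Category.assoc, hpb.w, Category.assoc]
  · exact IsPullback.of_iso hpb (Iso.refl _) (Iso.refl _) (Iso.refl _) e.symm (by simp) (by simp)
      (by simp [hq]) (by simp [hq])

end Groth.Agent.GrpQuotLib
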