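import Groth.Agent.GrpQuotLib.Descend
import Groth.Agent.SchDesc.TorsorDesc
import Groth.Agent.FpqcDesc.Basic
import Groth.Agent.ASp.Fpqc
/-!
Properties of a quotient map with kernel pair given by right translations of a subgroup.
-/

set_option autoImplicit false
set_option maxHeartbeats 1000000
set_option backward.isDefEq.respectTransparency.types false
set_option linter.style.haveILetI false

universe u

open CategoryTheory CategoryTheory.Limits MonoidalCategory CartesianMonoidalCategory MonObj AlgebraicGeometry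

namespace Groth.Agent.GrpQuotLib

variable {S : Scheme.{u}} {G N Q : Over S}

theorem exists_isFpqc_factor (p : G ⟶ Q)
    (hcov : (∃ (Z : Scheme.{u}) (q : Z ⟶ Q.left) (r : Z ⟶ G.left), r ≫ p.left = q ∧ Surjective q ∧ Flat q ∧
        ∀ V : Q.left.Opens, IsAffineOpen V → ∃ W : Z.Opens, IsCompact (W : Set Z) ∧ q.base '' (W : Set Z) = (V : Set Q.left))) :
    ∃ (Z : Over S) (r : Z ⟶ G), SchDesc.IsFpqc (r ≫ p).left := by
  obtain ⟨Z, q, r, hrq, hqs, hqf, hW⟩ := hcov
  let Z' : Over S := Over.mk (q ≫ Q.hom)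
  let r' : Z' ⟶ G := Over.homMk r (show r ≫ G.hom = q ≫ Q.hom by rw [← hrq, Category.assoc, Over.w p])
  refine ⟨Z', r', ?_⟩
  rw [Over.comp_left, show r'.left ≫ p.left = q from hrq]
  refine ⟨hqf, hqs, ⟨fun {U} hU => ?_⟩⟩
  obtain ⟨W, hWc, hWU⟩ := hW U hU
  exact .of_finite (κ := Unit) (fun _ => ⟨⟩) (fun _ => W) (fun _ => hWc) ((Set.iUnion_const _).trans hWU)

variable [GrpObj G] [GrpObj N] {u : N ⟶ G} {p : G ⟶ Q} (hsq : IsPullback ((G ◁ u) ≫ μ[G]) (fst G N) p p)
include hsq

/-- Properties of the subgroup pass to the quotient map. -/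
theorem prop_quotMap (P : MorphismProperty Scheme.{u}) [P.IsStableUnderBaseChange] [IsZariskiLocalAtTarget P]
    (hd : P.DescendsAlong (@Surjective ⊓ @Flat ⊓ @QuasiCompact)) {Z : Over S} (r : Z ⟶ G)
    [SchDesc.IsFpqc (r ≫ p).left] (h : P N.hom) : P p.left := by
  haveI : SchDesc.IsFpqc (r.left ≫ p.left) := by rw [← Over.comp_left]; infer_instance
  refine TorsorDesc.prop_of_isFpqc P hd p.left (r.left ≫ p.left) ?_
  have h1 : IsPullback ((G ◁ u) ≫ μ[G]).left (fst G N).left p.left p.left := hsq.map (Over.forget S)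
  have h2 := (IsPullback.of_hasPullback (fst G N).left r.left).paste_horiz h1
  rw [← h2.isoPullback_inv_snd]
  exact MorphismProperty.RespectsIso.precomp P h2.isoPullback.inv _
    (MorphismProperty.pullback_snd _ _ (MorphismProperty.pullback_fst G.hom N.hom h))

variable [IsMonHom u] [Mono u]

omit [IsMonHom u] in
/-- The subgroup is the fibre over the image of the unit. -/
theorem isPullback_unit : IsPullback u (toUnit N) p (η[G] ≫ p) := by
  have hw : u ≫ p = toUnit N ≫ η[G] ≫ p := by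
    have h1 := congrArg (lift (toUnit N ≫ η[G]) (𝟙 N) ≫ ·) hsq.w
    simp only [lift_fst_assoc, lift_whiskerLeft_assoc, Category.id_comp, Category.assoc] at h1
    rw [← h1, ← Category.assoc (lift _ u)]
    congr 1
    exact (_root_.one_mul u).symm
  have key : ∀ {T : Over S} (x : T ⟶ G) (a : T ⟶ 𝟙_ (Over S)), x ≫ p = a ≫ η[G] ≫ p → ∃ n : T ⟶ N, n ≫ u = x := by
    intro T x a h
    obtain rfl : a = toUnit T := toUnit_unique _ _
    have hc : x ≫ p = (toUnit T ≫ η[G]) ≫ p := by rw [Category.assoc]; exact h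
    have h1 := hsq.lift_fst _ _ hc
    have h2 := hsq.lift_snd _ _ hc
    refine ⟨hsq.lift _ _ hc ≫ snd G N, ?_⟩
    have h3 : hsq.lift _ _ hc = lift (toUnit T ≫ η[G]) (hsq.lift _ _ hc ≫ snd G N) :=
      CartesianMonoidalCategory.hom_ext _ _ (by rw [h2, lift_fst]) (by rw [lift_snd])
    rw [h3, lift_whiskerLeft_assoc] at h1
    refine Eq.trans ?_ h1
    exact (_root_.one_mul _).symm
  exact ⟨⟨hw⟩, ⟨PullbackCone.isLimitAux' _ fun c => ⟨(key c.fst c.snd c.condition).choose,
    (key c.fst c.snd c.condition).choose_spec, toUnit_unique _ _,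
    fun {m} hm _ => (cancel_mono u).1 (hm.trans (key c.fst c.snd c.condition).choose_spec.symm)⟩⟩⟩

omit [IsMonHom u] [Mono u] in
/-- The kernel pair is the inverse image of the diagonal. -/
theorem isPullback_diag :
    IsPullback (fst G N ≫ p) (lift ((G ◁ u) ≫ μ[G]) (fst G N)) (lift (𝟙 Q) (𝟙 Q)) (p ⊗ₘ p) := by
  have key : ∀ {T : Over S} (a : T ⟶ Q) (b : T ⟶ G ⊗ G), a ≫ lift (𝟙 Q) (𝟙 Q) = b ≫ (p ⊗ₘ p) →
      ∃ l : T ⟶ G ⊗ N, l ≫ fst G N ≫ p = a ∧ l ≫ lift ((G ◁ u) ≫ μ[G]) (fst G N) = b := by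
    intro T a b h
    have e1 : a = (b ≫ fst G G) ≫ p := by
      have := congrArg (· ≫ fst Q Q) h
      simpa using this
    have e2 : a = (b ≫ snd G G) ≫ p := by
      have := congrArg (· ≫ snd Q Q) h
      simpa using this
    refine ⟨hsq.lift (b ≫ fst G G) (b ≫ snd G G) (e1.symm.trans e2), ?_, ?_⟩
    · rw [← Category.assoc, hsq.lift_snd]; exact e2.symm
    · rw [comp_lift, hsq.lift_fst, hsq.lift_snd, ← comp_lift, lift_fst_snd, Category.comp_id]
  have hu : ∀ {T : Over S} (l m : T ⟶ G ⊗ N), l ≫ lift ((G ◁ u) ≫ μ[G]) (fst G N) =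
      m ≫ lift ((G ◁ u) ≫ μ[G]) (fst G N) → l = m := fun {T} l m h => by
    refine hsq.hom_ext ?_ ?_
    · simpa using congrArg (· ≫ fst G G) h
    · simpa using congrArg (· ≫ snd G G) h
  exact ⟨⟨by rw [lift_map, comp_lift, Category.comp_id, hsq.w]⟩, ⟨PullbackCone.isLimitAux' _ fun c =>
    ⟨(key c.fst c.snd c.condition).choose, (key c.fst c.snd c.condition).choose_spec.1,
      (key c.fst c.snd c.condition).choose_spec.2,
      fun {m} _ h2 => hu _ _ (h2.trans (key c.fst c.snd c.condition).choose_spec.2.symm)⟩⟩⟩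

omit [IsMonHom u] [Mono u] in
/-- The base is separated when the subgroup is closed. -/
theorem isSeparated_of_isClosedImmersion {Z : Over S} (r : Z ⟶ G) [SchDesc.IsFpqc (r ≫ p).left]
    [IsClosedImmersion u.left] : IsSeparated Q.hom := by
  have hcl : IsClosedImmersion (lift ((G ◁ u) ≫ μ[G]) (fst G N)).left := by
    let e : G ⊗ G ≅ G ⊗ G :=
      { hom := lift (fst G G * snd G G) (fst G G)
        inv := lift (snd G G) ((snd G G)⁻¹ * fst G G)
        hom_inv_id := by
          refine CartesianMonoidalCategory.hom_ext _ _ (by simp) ?_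
          simp [MonObj.comp_mul, GrpObj.comp_inv]
        inv_hom_id := by
          refine CartesianMonoidalCategory.hom_ext _ _ ?_ (by simp)
          simp [MonObj.comp_mul] }
    have he : lift ((G ◁ u) ≫ μ[G]) (fst G N) = (G ◁ u) ≫ e.hom := by
      refine CartesianMonoidalCategory.hom_ext _ _ ?_ (by simp [e])
      rw [lift_fst, Category.assoc, show e.hom ≫ fst G G = μ[G] from ?_]
      rw [show e.hom ≫ fst G G = fst G G * snd G G from lift_fst _ _]
      change lift (fst G G) (snd G G) ≫ μ[G] = _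
      rw [lift_fst_snd, Category.id_comp]
    rw [he, Over.comp_left]
    haveI : IsIso e.hom.left := ((Over.forget S).mapIso e).isIso_hom
    haveI : IsClosedImmersion (G ◁ u).left := by
      refine MorphismProperty.of_isPullback (P := @IsClosedImmersion) (IsPullback.flip
        (show IsPullback (G ◁ u).left (snd G N).left (snd G G).left u.left from ?_)) ‹_›
      refine IsPullback.of_right (h₁₂ := (fst G G).left) (v₁₃ := G.hom) (h₂₂ := G.hom) ?_ ?_
        (IsPullback.of_hasPullback G.hom G.hom)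
      · rw [← Over.comp_left, whiskerLeft_fst, Over.w u]
        exact IsPullback.of_hasPullback G.hom N.hom
      · rw [← Over.comp_left, whiskerLeft_snd, Over.comp_left]
    infer_instance
  haveI : SchDesc.IsFpqc ((r ≫ p) ⊗ₘ (r ≫ p)).left := by
    rw [MonoidalCategory.tensorHom_def, Over.comp_left]
    haveI := isFpqc_whiskerRight (r ≫ p) Z
    haveI := isFpqc_whiskerLeft (r ≫ p) Q
    exact isFpqc_comp _ _
  have hd : IsClosedImmersion (lift (𝟙 Q) (𝟙 Q)).left := by
    refine TorsorDesc.prop_of_isFpqc (@IsClosedImmersion : MorphismProperty Scheme.{u})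
      FpqcDesc.isClosedImmersion_descends (lift (𝟙 Q) (𝟙 Q)).left ((r ≫ p) ⊗ₘ (r ≫ p)).left ?_
    rw [← tensorHom_comp_tensorHom, Over.comp_left]
    have h1 := (isPullback_diag hsq).map (Over.forget S)
    have h2 : IsPullback (pullback.fst _ _ ≫ (fst G N ≫ p).left) (pullback.snd (lift ((G ◁ u) ≫ μ[G]) (fst G N)).left (r ⊗ₘ r).left)
        (lift (𝟙 Q) (𝟙 Q)).left ((r ⊗ₘ r).left ≫ (p ⊗ₘ p).left) :=
      (IsPullback.of_hasPullback (lift ((G ◁ u) ≫ μ[G]) (fst G N)).left (r ⊗ₘ r).left).paste_horiz h1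
    rw [← h2.isoPullback_inv_snd]
    exact MorphismProperty.RespectsIso.precomp (@IsClosedImmersion : MorphismProperty Scheme.{u})
      h2.isoPullback.inv _ (MorphismProperty.pullback_snd _ _ hcl)
  have hdiag : (lift (𝟙 Q) (𝟙 Q)).left = pullback.diagonal Q.hom := by
    apply pullback.hom_ext
    · rw [pullback.diagonal_fst]
      exact congrArg CommaMorphism.left (lift_fst (𝟙 Q) (𝟙 Q))
    · rw [pullback.diagonal_snd]
      exact congrArg CommaMorphism.left (lift_snd (𝟙 Q) (𝟙 Q))
  rw [hdiag] at hd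
  exact ⟨hd⟩

omit hsq [GrpObj G] [GrpObj N] [IsMonHom u] [Mono u] in
/-- Sections are immersions, closed when separated. -/
theorem section_props (e : 𝟙_ (Over S) ⟶ Q) :
    IsImmersion e.left ∧ (IsSeparated Q.hom → IsClosedImmersion e.left) := by
  have he : e.left ≫ Q.hom = 𝟙 S := Over.w e
  haveI : IsIso (e.left ≫ Q.hom) := by rw [he]; exact inferInstanceAs (IsIso (𝟙 S))
  refine ⟨IsImmersion.of_comp e.left Q.hom, fun h => ?_⟩
  exact IsClosedImmersion.of_comp e.left Q.hom

end Groth.Agent.GrpQuotLib
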