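import Groth.Agent.ASp.FlatQuot
import Groth.Agent.ASp.Bootstrap
import Groth.Agent.Boot.Helpers
import Groth.Agent.GrpQuotLib.Orbit
import Groth.Agent.SchDesc.TorsorDesc
import Groth.Agent.FpqcDesc.Basic
/-!
Properties of the diagonal of a flat quotient descend from the graph of the relation.
-/

set_option backward.isDefEq.respectTransparency false
set_option backward.isDefEq.respectTransparency.types false
set_option linter.style.haveILetI false

universe u

open CategoryTheory CategoryTheory.Limits MonoidalCategory CartesianMonoidalCategory AlgebraicGeometry Opposite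

namespace Groth.Agent.GrpQuotLib

open _root_.AlgSp Groth.Agent.ASp

variable {S : Scheme.{u}}

/-- A property of the graph of a flat relation passes to the diagonal of the quotient. -/
theorem repWith_diag_of_chart {R U : Over S} {s t : R ⟶ U} {F : Sp S} {p : (yon S).obj U ⟶ F}
    (hpb : IsPullback ((yon S).map t) ((yon S).map s) p p) (hchart : IsFppfChart p)
    (hdiag : Representable (Limits.diag F)) (P : MorphismProperty Scheme.{u}) [P.IsStableUnderBaseChange]
    [IsZariskiLocalAtTarget P] (hd : P.DescendsAlong (@Surjective ⊓ @Flat ⊓ @QuasiCompact))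
    (hP : P (lift t s).left) : RepWith P (Limits.diag F) := by
  refine ⟨hdiag, fun {W V} b fst' snd' sq => ?_⟩
  obtain ⟨C₁, b₁, a₁, h₁f, h₁l, h₁s, e₁⟩ := hchart.exists_lift (b ≫ prod.fst)
  obtain ⟨C₂, b₂, a₂, h₂f, h₂l, h₂s, e₂⟩ := hchart.exists_lift ((yon S).map b₁ ≫ b ≫ prod.snd)
  obtain ⟨α₁, rfl⟩ := (yon S).map_surjective a₁
  obtain ⟨α₂, rfl⟩ := (yon S).map_surjective a₂
  let cW : C₂ ⟶ W := b₂ ≫ b₁
  haveI : Flat cW.left := inferInstanceAs (Flat (b₂.left ≫ b₁.left))
  haveI : LocallyOfFinitePresentation cW.left := inferInstanceAs (LocallyOfFinitePresentation (b₂.left ≫ b₁.left))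
  haveI : Surjective cW.left := inferInstanceAs (Surjective (b₂.left ≫ b₁.left))
  let l : C₂ ⟶ U ⊗ U := lift (b₂ ≫ α₁) α₂
  have hjm : ∀ {Z : Sp S} (a c : Z ⟶ (yon S).obj (U ⊗ U)), a ≫ (yon S).map (fst U U) = c ≫ (yon S).map (fst U U) →
      a ≫ (yon S).map (snd U U) = c ≫ (yon S).map (snd U U) → a = c := fun a c ha hc => by
    refine hom_ext_yon fun T g => ?_
    obtain ⟨α, hα⟩ := (yon S).map_surjective (g ≫ a)
    obtain ⟨γ', hγ⟩ := (yon S).map_surjective (g ≫ c)
    rw [← hα, ← hγ]
    refine congrArg _ (CartesianMonoidalCategory.hom_ext _ _ ((yon S).map_injective ?_) ((yon S).map_injective ?_))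
    · rw [Functor.map_comp, Functor.map_comp, hα, hγ, Category.assoc, Category.assoc, ha]
    · rw [Functor.map_comp, Functor.map_comp, hα, hγ, Category.assoc, Category.assoc, hc]
  have sqd := Groth.Agent.Boot.isPullback_diag_kernelPair p hpb ((yon S).map (lift t s))
    (q₁ := (yon S).map (fst U U)) (q₂ := (yon S).map (snd U U))
    (by rw [← Functor.map_comp, lift_fst]) (by rw [← Functor.map_comp, lift_snd]) hjm
  have hl : (yon S).map l ≫ prod.lift ((yon S).map (fst U U) ≫ p) ((yon S).map (snd U U) ≫ p) =
      (yon S).map cW ≫ b := by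
    apply prod.hom_ext
    · rw [Category.assoc, prod.lift_fst, ← Category.assoc, ← Functor.map_comp, lift_fst, Functor.map_comp,
        Category.assoc, e₁, Functor.map_comp, Category.assoc, Category.assoc]
    · rw [Category.assoc, prod.lift_snd, ← Category.assoc, ← Functor.map_comp, lift_snd, e₂, Functor.map_comp,
        Category.assoc, Category.assoc]
  have sqR := (isPullback_yon_map (IsPullback.of_hasPullback (lift t s) l)).paste_horiz sqd
  rw [hl] at sqR
  have sqV := (isPullback_yon_map (IsPullback.of_hasPullback snd' cW)).paste_horiz sq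
  let e := sqV.isoIsPullback _ _ sqR
  obtain ⟨e', he'⟩ := (yon S).map_surjective e.hom
  have he : e' ≫ pullback.snd (lift t s) l = pullback.snd snd' cW := (yon S).map_injective (by
    rw [Functor.map_comp, he']; exact sqV.isoIsPullback_hom_snd _ _ sqR)
  haveI : IsIso e' := by
    haveI : IsIso ((yon S).map e') := by rw [he']; infer_instance
    exact isIso_of_fully_faithful (yon S) e'
  have hl' : P (pullback.snd (lift t s) l).left :=
    MorphismProperty.of_isPullback (P := P)
      (isPullback_left (IsPullback.of_hasPullback (lift t s) l)) hP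
  haveI : IsIso e'.left := inferInstanceAs (IsIso ((Over.forget S).map e'))
  have hq : P (pullback.snd snd' cW).left := by
    rw [← he, Over.comp_left]; exact MorphismProperty.RespectsIso.precomp P _ _ hl'
  haveI : SchDesc.IsFpqc cW.left := SchDesc.IsFpqc.of_locallyOfFinitePresentation cW.left
  have sq' := isPullback_left (IsPullback.of_hasPullback snd' cW)
  refine TorsorDesc.prop_of_isFpqc P hd snd'.left cW.left ?_
  rw [← sq'.isoPullback_inv_snd]
  exact MorphismProperty.RespectsIso.precomp P _ _ hq

end Groth.Agent.GrpQuotLib
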